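import Groth.Agent.GrpschLoci.Loci
import Groth.Agent.GitQuot.FppfSourceScheme

/-!
Descent of local finite presentation at a point along flat locally finitely presented base change.
-/

set_option autoImplicit false
universe u

open CategoryTheory CategoryTheory.Limits AlgebraicGeometry

namespace Groth.GrpschLoci

variable {X Y X' Y' : Scheme.{u}} {f : X ⟶ Y} {g' : X' ⟶ X} {f' : X' ⟶ Y'} {g : Y' ⟶ Y}

/-- Local finite presentation at a point descends along fppf base change. -/
theorem Near.lfp_descend (H : IsPullback g' f' f g) [Flat g] [LocallyOfFinitePresentation g]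
    {x' : X'} (h : Near @LocallyOfFinitePresentation f' x') :
    Near @LocallyOfFinitePresentation f (g' x') := by
  obtain ⟨O, hxO, hO⟩ := h
  haveI : Flat g' := MorphismProperty.of_isPullback H.flip ‹_›
  haveI : LocallyOfFinitePresentation g' := MorphismProperty.of_isPullback H.flip ‹_›
  let W : X.Opens := ⟨g' '' (O : Set X'), g'.isOpenMap _ O.2⟩
  have hle : O ≤ g' ⁻¹ᵁ W := fun z hz => ⟨z, hz, rfl⟩
  let p : O.toScheme ⟶ W.toScheme := g'.resLE W O hle
  have hp : p ≫ W.ι = O.ι ≫ g' := Scheme.Hom.resLE_comp_ι _ _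
  haveI : Surjective p := ⟨fun w => by
    obtain ⟨z, hz, hzw⟩ := w.2
    exact ⟨⟨z, hz⟩, W.ι.isOpenEmbedding.injective ((congr(($hp).base ⟨z, hz⟩)).trans hzw)⟩⟩
  haveI : Flat p := by
    simp only [p, Scheme.Hom.resLE]; infer_instance
  haveI : LocallyOfFinitePresentation p := by
    simp only [p, Scheme.Hom.resLE]; infer_instance
  haveI : LocallyOfFinitePresentation (p ≫ W.ι ≫ f) := by
    rw [← Category.assoc, hp, Category.assoc, H.w, ← Category.assoc]
    haveI := hO
    infer_instance
  exact ⟨W, ⟨x', hxO, rfl⟩, Groth.GitQuot.FppfSource.locallyOfFinitePresentation_of_fppf p (W.ι ≫ f)⟩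

end Groth.GrpschLoci
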