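import Groth.Agent.GrpschLoci.MonoHomLft
import Groth.Agent.AlgGrp1.Extension
import Groth.Agent.AlgGrp1.ImageHom
import Groth.Agent.S5337

/-!
Quasi-compact homomorphisms of group schemes locally of finite type over a field with discrete kernel
are finite.
-/

set_option autoImplicit false
universe u

open CategoryTheory CategoryTheory.Limits MonoidalCategory CartesianMonoidalCategory MonObj GrpObj
  AlgebraicGeometry

namespace Groth.GrpschLoci

variable {k : Type u} [Field k] {G H : Over (Spec (CommRingCat.of k))} [GrpObj G] [GrpObj H]

/-- A homomorphism with discrete fibre through the unit is locally quasi-finite. -/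
theorem lqf_of_discrete_kernel [LocallyOfFiniteType G.hom] (u : G ⟶ H) [IsMonHom u]
    (h : _root_.IsDiscrete (u.left ⁻¹' {η[H].left (IsLocalRing.closedPoint k)})) :
    LocallyQuasiFinite u.left := by
  haveI : LocallyOfFiniteType u.left :=
    haveI : LocallyOfFiniteType (u.left ≫ H.hom) := by rw [Over.w]; infer_instance
    locallyOfFiniteType_of_comp u.left H.hom
  let e := η[G].left (IsLocalRing.closedPoint k)
  have he : u.left e = η[H].left (IsLocalRing.closedPoint k) :=
    congr(($(IsMonHom.one_hom u)).left.base (IsLocalRing.closedPoint k))
  have hq : u.left.QuasiFiniteAt e := by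
    rw [Scheme.Hom.quasiFiniteAt_iff_isOpen_singleton_asFiber]
    rw [← he] at h
    haveI := isDiscrete_iff_discreteTopology.mp h
    haveI : DiscreteTopology ↥(u.left.fiber (u.left e)) :=
      (u.left.fiberHomeo (u.left e)).discreteTopology_iff.mpr ‹_›
    exact isOpen_discrete _
  obtain ⟨W, heW, hW⟩ := near_lqf_iff.mpr hq
  exact (Groth.Agent.S5337.result k G H u W ⟨e, heW⟩).1 hW

/-- A flat surjective quasi-compact homomorphism with discrete kernel of groups of finite type over a
field is universally closed. -/
theorem universallyClosed_of_flat_lqf [LocallyOfFiniteType G.hom] [QuasiCompact G.hom]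
    (q : G ⟶ H) [IsMonHom q] [Flat q.left] [Surjective q.left] [QuasiCompact q.left]
    [LocallyQuasiFinite q.left] : UniversallyClosed q.left := by
  haveI : LocallyOfFiniteType q.left :=
    haveI : LocallyOfFiniteType (q.left ≫ H.hom) := by rw [Over.w]; infer_instance
    locallyOfFiniteType_of_comp q.left H.hom
  let N : Over (Spec (CommRingCat.of k)) := Over.mk (pullback.fst q.left η[H].left ≫ G.hom)
  let i : N ⟶ G := Over.homMk (pullback.fst q.left η[H].left) rfl
  have hi : AlgGrp.IsKernel i q := by
    have e : (toUnit N).left = pullback.snd q.left η[H].left := by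
      have h : (toUnit N).left ≫ (𝟙_ (Over (Spec (CommRingCat.of k)))).hom = N.hom := Over.w _
      have h' : pullback.fst q.left η[H].left ≫ G.hom = pullback.snd q.left η[H].left := by
        rw [← Over.w q, ← Category.assoc, pullback.condition, Category.assoc, Over.w η[H]]
        exact Category.comp_id _
      exact ((Category.comp_id _).symm.trans h).trans h'
    refine IsPullback.of_map (Over.forget _) (Over.OverMorphism.ext ?_) ?_
    · show pullback.fst q.left η[H].left ≫ q.left = (toUnit N).left ≫ η[H].left
      rw [e]; exact pullback.condition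
    · show IsPullback (pullback.fst q.left η[H].left) (toUnit N).left q.left η[H].left
      rw [e]; exact IsPullback.of_hasPullback _ _
  have hN : IsFinite N.hom := by
    have h' : N.hom = pullback.snd q.left η[H].left := by
      show pullback.fst q.left η[H].left ≫ G.hom = _
      rw [← Over.w q, ← Category.assoc, pullback.condition, Category.assoc, Over.w η[H]]
      exact Category.comp_id _
    rw [h']
    exact IsFinite.of_locallyQuasiFinite _
  exact Groth.AlgGrp1.IsKernel.descends hi @UniversallyClosed (inferInstance : UniversallyClosed N.hom)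

/-- A quasi-compact homomorphism with discrete kernel of group schemes locally of finite type over a
field is finite. -/
theorem isFinite_of_discrete_kernel [LocallyOfFiniteType G.hom] [LocallyOfFiniteType H.hom]
    (u : G ⟶ H) [IsMonHom u] [QuasiCompact u.left] [LocallyQuasiFinite u.left] : IsFinite u.left := by
  haveI : LocallyOfFiniteType u.left :=
    haveI : LocallyOfFiniteType (u.left ≫ H.hom) := by rw [Over.w]; infer_instance
    locallyOfFiniteType_of_comp u.left H.hom
  let t : Spec (CommRingCat.of (AlgebraicClosure k)) ⟶ Spec (CommRingCat.of k) :=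
    Groth.GrpschSep.closureBase k
  let u' : Red.bc t G ⟶ Red.bc t H := (Over.pullback t).map u
  haveI : LocallyOfFiniteType (Red.bc t G).hom :=
    MorphismProperty.pullback_snd (P := @LocallyOfFiniteType) _ _ ‹LocallyOfFiniteType G.hom›
  haveI : LocallyOfFiniteType (Red.bc t H).hom :=
    MorphismProperty.pullback_snd (P := @LocallyOfFiniteType) _ _ ‹LocallyOfFiniteType H.hom›
  haveI : IsMonHom u' := inferInstanceAs (IsMonHom ((Over.pullback t).map u))
  have sq := Groth.GrpschAbsch.FibreFlat.isPullback_map t u
  haveI : LocallyQuasiFinite u'.left := MorphismProperty.of_isPullback (P := @LocallyQuasiFinite) sq ‹_›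
  haveI : QuasiCompact u'.left := MorphismProperty.of_isPullback (P := @QuasiCompact) sq ‹_›
  haveI : UniversallyClosed u'.left := by
    refine of_neutral @UniversallyClosed (fun f hE => ?_) u' ?_
    · haveI := hE
      haveI : IsPreimmersion f := inferInstance
      haveI := IsClosedImmersion.of_isPreimmersion f (by rw [Set.range_eq_empty f]; exact isClosed_empty)
      infer_instance
    intro H₀ _ i _ _ _ G₀ _ j v _ _ _ sq₀
    haveI : LocallyOfFiniteType H₀.hom := by rw [← Over.w i]; infer_instance
    haveI : LocallyOfFiniteType G₀.hom := by rw [← Over.w j]; infer_instance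
    haveI : QuasiCompact H₀.hom := quasiCompact_of_connected H₀
    haveI : QuasiCompact v.left := MorphismProperty.of_isPullback (P := @QuasiCompact) sq₀ ‹_›
    haveI : LocallyQuasiFinite v.left := MorphismProperty.of_isPullback (P := @LocallyQuasiFinite) sq₀ ‹_›
    haveI : QuasiCompact G₀.hom := by rw [← Over.w v]; infer_instance
    obtain ⟨K, gK, c, g, hc, hci, hg, hKl, hKq, hgf, hgs, hgc⟩ := Groth.AlgGrp1.exists_image_hom v
    haveI : QuasiCompact (g.left ≫ c.left) := by rw [← Over.comp_left, hgc]; infer_instance
    haveI : QuasiCompact g.left := QuasiCompact.of_comp g.left c.left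
    haveI : LocallyQuasiFinite (g.left ≫ c.left) := by rw [← Over.comp_left, hgc]; infer_instance
    haveI : LocallyQuasiFinite g.left := LocallyQuasiFinite.of_comp g.left c.left
    haveI := universallyClosed_of_flat_lqf g
    rw [← hgc, Over.comp_left]
    infer_instance
  haveI : UniversallyClosed u.left := by
    have hcov : (@Surjective ⊓ @Flat ⊓ @QuasiCompact : MorphismProperty Scheme.{u})
        (pullback.fst H.hom t) :=
      ⟨⟨MorphismProperty.pullback_fst (P := @Surjective) _ _
        (⟨fun p => ⟨IsLocalRing.closedPoint (AlgebraicClosure k), Subsingleton.elim _ _⟩⟩ : Surjective t),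
        MorphismProperty.pullback_fst (P := @Flat) _ _ inferInstance⟩,
        MorphismProperty.pullback_fst (P := @QuasiCompact) _ _ inferInstance⟩
    exact MorphismProperty.of_isPullback_of_descendsAlong (P := @UniversallyClosed) sq.flip hcov
      (inferInstance : UniversallyClosed u'.left)
  haveI : IsSeparated G.hom := Groth.AlgGrp1.isSeparated_grpObj G
  haveI : IsSeparated (u.left ≫ H.hom) := by rw [Over.w]; infer_instance
  haveI : IsSeparated u.left := IsSeparated.of_comp u.left H.hom
  haveI : IsProper u.left := {}
  exact IsFinite.of_isProper_of_locallyQuasiFinite u.left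

end Groth.GrpschLoci
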