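import Groth.Agent.AlgGrp1.MonoHom
import Groth.Agent.GrpschAbsch.NeutralSet
import Groth.Agent.GrpschAbsch.IdComp
import Groth.Agent.GrpschSep.AnyTypeField
import Groth.Agent.S5349
import Mathlib.AlgebraicGeometry.Morphisms.FlatDescent

/-!
Homomorphisms of group schemes locally of finite type over a field: reduction to the neutral component.
-/

set_option autoImplicit false
universe u

open CategoryTheory CategoryTheory.Limits MonoidalCategory CartesianMonoidalCategory MonObj GrpObj
  AlgebraicGeometry

namespace Groth.GrpschLoci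

variable {k : Type u} [Field k] {G H : Over (Spec (CommRingCat.of k))} [GrpObj G] [GrpObj H]

/-- A connected group scheme locally of finite type over a field is quasi-compact. -/
theorem quasiCompact_of_connected (G : Over (Spec (CommRingCat.of k))) [GrpObj G]
    [LocallyOfFiniteType G.hom] [ConnectedSpace G.left] : QuasiCompact G.hom := by
  haveI : IrreducibleSpace G.left := by
    have h := Groth.SGA7.IdComponent.isIrreducible_connectedComponent_one G
    rw [PreconnectedSpace.connectedComponent_eq_univ] at h
    exact irreducibleSpace_def _ |>.mpr h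
  haveI : CompactSpace G.left := by
    refine Groth.Agent.S5349.result k G G (Groth.GrpschSep.selfAction G) ?_
    let e : G ⊗ G ≅ G ⊗ G :=
      { hom := lift (fst _ _ * snd _ _) (snd _ _)
        inv := lift (fst _ _ * (snd _ _)⁻¹) (snd _ _)
        hom_inv_id := by
          apply CartesianMonoidalCategory.hom_ext <;> simp [MonObj.comp_mul, GrpObj.comp_inv]
        inv_hom_id := by
          apply CartesianMonoidalCategory.hom_ext <;> simp [MonObj.comp_mul, GrpObj.comp_inv] }
    haveI : IsIso e.hom.left := ((Over.forget _).mapIso e).isIso_hom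
    have he : lift (Groth.GrpschSep.selfAction G).act (snd G G) = e.hom := by
      show lift μ[G] (snd G G) = lift (fst G G * snd G G) (snd G G)
      rw [show μ[G] = fst G G * snd G G by simp [Hom.mul_def]]
    rw [he]
    infer_instance
  exact (quasiCompact_iff_compactSpace G.hom).mpr ‹_›

/-- A property local on the target holds for a homomorphism of group schemes locally of finite type
over an algebraically closed field as soon as it holds over the neutral component. -/
theorem of_neutral [IsAlgClosed k] [LocallyOfFiniteType G.hom] [LocallyOfFiniteType H.hom]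
    (P : MorphismProperty Scheme.{u}) [IsZariskiLocalAtTarget P] [P.IsStableUnderBaseChange]
    (hempty : ∀ {A B : Scheme.{u}} (f : A ⟶ B), IsEmpty A → P f)
    (u : G ⟶ H) [IsMonHom u]
    (h₀ : ∀ (H₀ : Over (Spec (CommRingCat.of k))) (_ : GrpObj H₀) (i : H₀ ⟶ H), IsMonHom i →
      IsOpenImmersion i.left → ConnectedSpace H₀.left →
      ∀ (G₀ : Over (Spec (CommRingCat.of k))) (_ : GrpObj G₀) (j : G₀ ⟶ G) (v : G₀ ⟶ H₀), IsMonHom j →
      IsMonHom v → IsOpenImmersion j.left → IsPullback j.left v.left u.left i.left → P v.left) :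
    P u.left := by
  obtain ⟨H₀, gH₀, i, hi, hio, hir, hH₀⟩ := Groth.GrpschAbsch.NeutralSet.exists_neutral_openSubgroup H
  haveI := Over.mono_of_mono_left i
  let G₀ : Over (Spec (CommRingCat.of k)) := Over.mk (pullback.fst u.left i.left ≫ G.hom)
  let j : G₀ ⟶ G := Over.homMk (pullback.fst u.left i.left) rfl
  let v : G₀ ⟶ H₀ := Over.homMk (pullback.snd u.left i.left) (by
    show _ ≫ H₀.hom = _ ≫ G.hom
    rw [← Over.w i, ← Category.assoc, ← pullback.condition, Category.assoc, Over.w u])
  have sq : IsPullback j.left v.left u.left i.left := IsPullback.of_hasPullback _ _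
  haveI : IsOpenImmersion j.left := inferInstanceAs (IsOpenImmersion (pullback.fst u.left i.left))
  haveI := Over.mono_of_mono_left j
  have hw : j ≫ u = v ≫ i := Over.OverMorphism.ext pullback.condition
  have hfac : ∀ {T : Over (Spec (CommRingCat.of k))} (g : T ⟶ G) (z : T ⟶ H₀), z ≫ i = g ≫ u →
      ∃ y : T ⟶ G₀, y ≫ j = g := fun {T} g z hz =>
    ⟨Over.homMk (pullback.lift g.left z.left (congrArg CommaMorphism.left hz).symm) (by
        show pullback.lift _ _ _ ≫ pullback.fst _ _ ≫ G.hom = _
        rw [pullback.lift_fst_assoc, Over.w g]),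
      Over.OverMorphism.ext (pullback.lift_fst _ _ _)⟩
  obtain ⟨gG₀, hj⟩ := Groth.GrpschAbsch.NeutralSet.exists_grpObj_of_mono G j
    (hfac _ η[H₀] (by rw [IsMonHom.one_hom, IsMonHom.one_hom]))
    (hfac _ ((fst _ _ ≫ v) * (snd _ _ ≫ v)) (by
      rw [MonObj.mul_comp, MonObj.mul_comp, Category.assoc, Category.assoc, Category.assoc,
        Category.assoc, hw]))
    (hfac _ v⁻¹ (by rw [GrpObj.inv_comp, GrpObj.inv_comp, hw]))
  haveI hv : IsMonHom v := by
    refine Groth.AlgGrp1.isMonHom_of_points v fun T a b => ?_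
    rw [← cancel_mono i, MonObj.mul_comp (a ≫ v) (b ≫ v) i, Category.assoc, ← hw, ← Category.assoc,
      MonObj.mul_comp a b j, MonObj.mul_comp (a ≫ j) (b ≫ j) u]
    simp only [Category.assoc, hw]
  have hP : P v.left := h₀ H₀ gH₀ i hi hio hH₀ G₀ gG₀ j v hj hv inferInstance sq
  -- translates
  have pts : ∀ (Y : Over (Spec (CommRingCat.of k))) [LocallyOfFiniteType Y.hom] (y : Y.left),
      IsClosed ({y} : Set Y.left) →
      ∃ q : 𝟙_ (Over (Spec (CommRingCat.of k))) ⟶ Y, ∀ p, q.left p = y := fun Y _ y hy =>
    ⟨Over.homMk _ ((pointEquivClosedPoint Y.hom).symm ⟨y, hy⟩).2,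
      fun p => pointOfClosedPoint_apply Y.hom y hy p⟩
  let τ : (𝟙_ (Over (Spec (CommRingCat.of k))) ⟶ H) → (H₀ ⟶ H) := fun q => (toUnit H₀ ≫ q) * i
  have hτ : ∀ q, τ q = i ≫ lift (toUnit H ≫ q) (𝟙 H) ≫ μ[H] := fun q => by
    simp only [τ]
    rw [Hom.mul_def, ← Category.assoc, comp_lift, Category.comp_id, ← Category.assoc i,
      toUnit_unique (i ≫ toUnit H) (toUnit H₀)]
  let trans : ∀ {Y : Over (Spec (CommRingCat.of k))} [GrpObj Y]
      (q : 𝟙_ (Over (Spec (CommRingCat.of k))) ⟶ Y), Y ≅ Y := fun {Y} _ q =>
    { hom := (toUnit Y ≫ q) * 𝟙 Y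
      inv := (toUnit Y ≫ q)⁻¹ * 𝟙 Y
      hom_inv_id := by
        rw [MonObj.comp_mul, GrpObj.comp_inv, Category.comp_id, ← Category.assoc,
          toUnit_unique (((toUnit Y ≫ q) * 𝟙 Y) ≫ toUnit Y) (toUnit Y), inv_mul_cancel_left]
      inv_hom_id := by
        rw [MonObj.comp_mul, Category.comp_id, ← Category.assoc,
          toUnit_unique (((toUnit Y ≫ q)⁻¹ * 𝟙 Y) ≫ toUnit Y) (toUnit Y), mul_inv_cancel_left] }
  have hτ' : ∀ q, τ q = i ≫ (trans q).hom := fun q => by
    simp only [τ, trans]
    rw [MonObj.comp_mul, Category.comp_id, ← Category.assoc, toUnit_unique (i ≫ toUnit H) (toUnit H₀)]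
  haveI hτo : ∀ q, IsOpenImmersion (τ q).left := fun q => by
    rw [hτ', Over.comp_left]
    haveI : IsIso (trans q).hom.left := ((Over.forget _).mapIso (trans q)).isIso_hom
    infer_instance
  have hrange : ∀ (q : 𝟙_ (Over (Spec (CommRingCat.of k))) ⟶ H) (p),
      Set.range (τ q).left = connectedComponent (q.left p) := by
    intro q p
    haveI : IsIso (trans q).hom.left := ((Over.forget _).mapIso (trans q)).isIso_hom
    let φ : H.left ≃ₜ H.left := (trans q).hom.left.homeomorph
    have hφ : φ (η[H].left (IsLocalRing.closedPoint k)) = q.left p := by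
      have h : η[H] ≫ (trans q).hom = q := by
        simp only [trans]
        rw [MonObj.comp_mul, Category.comp_id, ← Category.assoc,
          toUnit_unique (η[H] ≫ toUnit H) (𝟙 _), Category.id_comp,
          show (η[H] : 𝟙_ _ ⟶ H) = 1 by
            rw [Hom.one_def, toUnit_unique (toUnit _) (𝟙 _), Category.id_comp],
          _root_.mul_one]
      exact (congr(($h).left.base (IsLocalRing.closedPoint k))).trans
        (congrArg q.left (Subsingleton.elim (α := ↥(Spec (CommRingCat.of k))) _ _))
    rw [hτ', Over.comp_left, Scheme.Hom.comp_base, TopCat.coe_comp, Set.range_comp, hir, ← hφ]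
    exact Set.Subset.antisymm (φ.continuous.image_connectedComponent_subset _) fun z hz =>
      ⟨φ.symm z, by
        have := φ.symm.continuous.image_connectedComponent_subset (φ (η[H].left (IsLocalRing.closedPoint k)))
          ⟨z, hz, rfl⟩
        rwa [Homeomorph.symm_apply_apply] at this, φ.apply_symm_apply z⟩
  let p₀ : ↥(𝟙_ (Over (Spec (CommRingCat.of k)))).left := IsLocalRing.closedPoint k
  haveI : JacobsonSpace H.left := LocallyOfFiniteType.jacobsonSpace H.hom
  haveI : JacobsonSpace G.left := LocallyOfFiniteType.jacobsonSpace G.hom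
  let cov : (𝟙_ (Over (Spec (CommRingCat.of k))) ⟶ H) → H.left.Opens := fun q => (τ q).left.opensRange
  refine (IsZariskiLocalAtTarget.iff_of_iSup_eq_top (P := P) cov (top_le_iff.mp fun y _ => ?_)).mpr fun q => ?_
  · have hC := Groth.GrpschAbsch.isOpen_connectedComponent' H y
    obtain ⟨c, hcy, hc⟩ := nonempty_inter_closedPoints ⟨y, mem_connectedComponent⟩
      hC.isLocallyClosed
    obtain ⟨q, hq⟩ := pts H c hc
    refine TopologicalSpace.Opens.mem_iSup.mpr ⟨q, ?_⟩
    show y ∈ Set.range (τ q).left
    rw [hrange q p₀, hq, ← connectedComponent_eq hcy]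
    exact mem_connectedComponent
  by_cases hne : ((u.left ⁻¹ᵁ cov q : G.left.Opens) : Set G.left).Nonempty
  swap
  · exact hempty _ ⟨fun z => hne ⟨z.1, z.2⟩⟩
  obtain ⟨g, hg, hgc⟩ := nonempty_inter_closedPoints hne (u.left ⁻¹ᵁ cov q).2.isLocallyClosed
  obtain ⟨r, hr⟩ := pts G g hgc
  have hsame : cov q = cov (r ≫ u) := by
    refine TopologicalSpace.Opens.ext ?_
    have h1 : u.left g ∈ connectedComponent (q.left p₀) := by rw [← hrange q p₀]; exact hg
    show Set.range (τ q).left = Set.range (τ (r ≫ u)).left
    rw [hrange q p₀, hrange (r ≫ u) p₀, Over.comp_left, Scheme.Hom.comp_apply, hr, connectedComponent_eq h1]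
  rw [hsame]
  let tG : G₀ ⟶ G := (toUnit G₀ ≫ r) * j
  have htG : tG = j ≫ (trans r).hom := by
    simp only [tG, trans]
    rw [MonObj.comp_mul, Category.comp_id, ← Category.assoc, toUnit_unique (j ≫ toUnit G) (toUnit G₀)]
  haveI : IsIso (trans r).hom.left := ((Over.forget _).mapIso (trans r)).isIso_hom
  haveI : IsIso (trans (r ≫ u)).hom.left := ((Over.forget _).mapIso (trans (r ≫ u))).isIso_hom
  have sqT : IsPullback tG.left v.left u.left (τ (r ≫ u)).left := by
    rw [htG, hτ', Over.comp_left, Over.comp_left]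
    refine sq.paste_horiz (IsPullback.of_horiz_isIso ⟨?_⟩)
    rw [← Over.comp_left, ← Over.comp_left]
    congr 1
    simp only [trans]
    rw [MonObj.mul_comp, MonObj.comp_mul, Category.id_comp, Category.comp_id, ← Category.assoc u,
      toUnit_unique (u ≫ toUnit H) (toUnit G), Category.assoc]
  let e := (τ (r ≫ u)).left.isoOpensRange
  have he : e.hom ≫ (τ (r ≫ u)).left.opensRange.ι = (τ (r ≫ u)).left := Scheme.Hom.isoOpensRange_hom_ι _
  have sq' : IsPullback tG.left (v.left ≫ e.hom) u.left (τ (r ≫ u)).left.opensRange.ι := by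
    refine IsPullback.of_iso sqT (Iso.refl _) (Iso.refl _) e (Iso.refl _) ?_ ?_ ?_ ?_
    · simp
    · simp
    · simp
    · simp [he]
  have hres := isPullback_morphismRestrict u.left (τ (r ≫ u)).left.opensRange
  have hve : P (v.left ≫ e.hom) := (P.cancel_right_of_respectsIso v.left e.hom).mpr hP
  rw [← hres.flip.isoIsPullback_hom_snd _ _ sq', P.cancel_left_of_respectsIso]
  exact hve

/-- A quasi-compact monomorphism of group schemes locally of finite type over a field is a closed
immersion. -/
theorem isClosedImmersion_of_mono_lft [LocallyOfFiniteType G.hom] [LocallyOfFiniteType H.hom]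
    (u : G ⟶ H) [IsMonHom u] [Mono u] [QuasiCompact u.left] : IsClosedImmersion u.left := by
  haveI : Mono u.left := inferInstance
  haveI : LocallyOfFiniteType u.left :=
    haveI : LocallyOfFiniteType (u.left ≫ H.hom) := by rw [Over.w]; infer_instance
    locallyOfFiniteType_of_comp u.left H.hom
  let t : Spec (CommRingCat.of (AlgebraicClosure k)) ⟶ Spec (CommRingCat.of k) :=
    Groth.GrpschSep.closureBase k
  let G' := Red.bc t G
  let H' := Red.bc t H
  let u' : G' ⟶ H' := (Over.pullback t).map u
  haveI : LocallyOfFiniteType G'.hom :=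
    MorphismProperty.pullback_snd (P := @LocallyOfFiniteType) _ _ ‹LocallyOfFiniteType G.hom›
  haveI : LocallyOfFiniteType H'.hom :=
    MorphismProperty.pullback_snd (P := @LocallyOfFiniteType) _ _ ‹LocallyOfFiniteType H.hom›
  haveI : IsMonHom u' := inferInstanceAs (IsMonHom ((Over.pullback t).map u))
  have sq := Groth.GrpschAbsch.FibreFlat.isPullback_map t u
  haveI : Mono u'.left :=
    MorphismProperty.of_isPullback (P := MorphismProperty.monomorphisms Scheme) sq ‹Mono u.left›
  haveI : QuasiCompact u'.left := MorphismProperty.of_isPullback (P := @QuasiCompact) sq ‹_›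
  haveI hc : IsClosedImmersion u'.left := by
    refine of_neutral @IsClosedImmersion (fun f hE => ?_) u' ?_
    · haveI := hE
      haveI : IsPreimmersion f := inferInstance
      exact IsClosedImmersion.of_isPreimmersion f (by rw [Set.range_eq_empty f]; exact isClosed_empty)
    intro H₀ _ i _ _ _ G₀ _ j v _ _ _ sq₀
    haveI : LocallyOfFiniteType H₀.hom := by rw [← Over.w i]; infer_instance
    haveI : LocallyOfFiniteType G₀.hom := by rw [← Over.w j]; infer_instance
    haveI : QuasiCompact H₀.hom := quasiCompact_of_connected H₀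
    haveI : QuasiCompact v.left := MorphismProperty.of_isPullback (P := @QuasiCompact) sq₀ ‹_›
    haveI : QuasiCompact G₀.hom := by rw [← Over.w v]; infer_instance
    haveI : Mono v.left :=
      MorphismProperty.of_isPullback (P := MorphismProperty.monomorphisms Scheme) sq₀ ‹Mono u'.left›
    haveI := Over.mono_of_mono_left v
    exact Groth.AlgGrp1.isClosedImmersion_of_mono_hom v
  haveI : UniversallyClosed u.left := by
    have hcov : (@Surjective ⊓ @Flat ⊓ @QuasiCompact : MorphismProperty Scheme.{u})
        (pullback.fst H.hom t) :=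
      ⟨⟨MorphismProperty.pullback_fst (P := @Surjective) _ _
        (⟨fun p => ⟨IsLocalRing.closedPoint (AlgebraicClosure k), Subsingleton.elim _ _⟩⟩ : Surjective t),
        MorphismProperty.pullback_fst (P := @Flat) _ _ inferInstance⟩,
        MorphismProperty.pullback_fst (P := @QuasiCompact) _ _ inferInstance⟩
    exact MorphismProperty.of_isPullback_of_descendsAlong (P := @UniversallyClosed) sq.flip hcov
      (inferInstance : UniversallyClosed u'.left)
  haveI : IsProper u.left := {}
  haveI : LocallyQuasiFinite u.left := inferInstance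
  haveI : IsFinite u.left := IsFinite.of_isProper_of_locallyQuasiFinite u.left
  exact (IsClosedImmersion.iff_isFinite_and_mono _).mpr ⟨‹_›, ‹_›⟩

end Groth.GrpschLoci
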