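import Groth.Agent.GrpschAbsch.Basic
import Groth.Agent.AlgGrp2.Basic
import Groth.Agent.GrpschAbsch.FibreFlat
import Mathlib.AlgebraicGeometry.PullbackCarrier

/-!
The locus where a homomorphism of group schemes has a local property is saturated for the map to
the base.
-/

set_option autoImplicit false
universe u

open CategoryTheory CategoryTheory.Limits MonoidalCategory CartesianMonoidalCategory MonObj GrpObj
  AlgebraicGeometry

namespace Groth.GrpschLoci

variable {S : Scheme.{u}} {G H : Over S} [GrpObj G] [GrpObj H] (u : G ⟶ H) [IsMonHom u]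

/-- The shears of source and target form a cartesian square. -/
lemma isPullback_shear :
    IsPullback (Groth.GrpschAbsch.shearR (𝟙 G)).hom.left (u ▷ G).left (u ▷ G).left
      (Groth.GrpschAbsch.shearR u).hom.left := by
  refine IsPullback.of_horiz_isIso ⟨?_⟩
  rw [← Over.comp_left, ← Over.comp_left]
  congr 1
  apply CartesianMonoidalCategory.hom_ext <;> simp [MonObj.mul_comp, MonObj.comp_mul]

/-- A local property of a homomorphism of group schemes holds along whole fibres over the base. -/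
theorem invariant (Q : ∀ ⦃X Y : Scheme.{u}⦄, (X ⟶ Y) → X → Prop)
    (hbc : ∀ ⦃X' X Y' Y : Scheme.{u}⦄ {g' : X' ⟶ X} {f' : X' ⟶ Y'} {f : X ⟶ Y} {g : Y' ⟶ Y},
      IsPullback g' f' f g → ∀ x', Q f (g' x') → Q f' x')
    (hdesc : ∀ z : (G ⊗ G).left, Q (u ▷ G).left z → Q u.left ((fst G G).left z))
    {x y : G.left} (hxy : G.hom x = G.hom y) (hx : Q u.left x) : Q u.left y := by
  obtain ⟨w, hw₁, hw₂⟩ := Scheme.Pullback.exists_preimage_pullback (f := G.hom) (g := G.hom) x y hxy
  let τ := Groth.GrpschAbsch.shearL (𝟙 G)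
  let z : (G ⊗ G).left := τ.inv.left w
  have hτ : ∀ (c : G ⊗ G ⟶ G), (τ.inv ≫ c).left w = c.left z := fun c ↦ rfl
  have hz₁ : (fst G G).left z = x := by
    rw [← hτ, show τ.inv ≫ fst G G = fst G G by simp [τ]]
    exact hw₁
  have hz₂ : (fst G G * snd G G).left z = y := by
    rw [← hτ, show τ.inv ≫ (fst G G * snd G G) = snd G G by
      simp [τ, MonObj.comp_mul]]
    exact hw₂
  have hv : Q (u ▷ G).left z :=
    hbc (Groth.AlgGrp2.isPullback_whiskerRight_fst G u).flip z (hz₁ ▸ hx)
  let σ := Groth.GrpschAbsch.shearR (𝟙 G)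
  have hsq := isPullback_shear u
  have hsq' : IsPullback (inv σ.hom.left) (u ▷ G).left (u ▷ G).left
      (inv (Groth.GrpschAbsch.shearR u).hom.left) :=
    IsPullback.of_horiz_isIso ⟨by rw [IsIso.inv_comp_eq, ← Category.assoc, hsq.w,
      Category.assoc, IsIso.hom_inv_id, Category.comp_id]⟩
  have hzσ : inv σ.hom.left (σ.hom.left z) = z := by
    rw [← Scheme.Hom.comp_apply, IsIso.hom_inv_id]; rfl
  have h := hdesc _ (hbc hsq' (σ.hom.left z) (hzσ.symm ▸ hv))
  have he : (fst G G).left (σ.hom.left z) = y := by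
    rw [← Scheme.Hom.comp_apply, ← Over.comp_left,
      show σ.hom ≫ fst G G = fst G G * snd G G by simp [σ]]
    exact hz₂
  exact he ▸ h

omit [GrpObj H] [IsMonHom u] in
/-- An open set which is a union of fibres of a group scheme comes from an open set of the base. -/
theorem isOpen_locus {W : Set G.left} (hW : IsOpen W)
    (hinv : ∀ x y : G.left, G.hom x = G.hom y → x ∈ W → y ∈ W) (p : S → Prop)
    (hp : ∀ s, p s ↔ ∀ x : G.left, G.hom x = s → x ∈ W) :
    IsOpen {s | p s} ∧ W = G.hom.base ⁻¹' {s | p s} := by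
  let e : S → G.left := fun s ↦ η[G].left s
  have he : ∀ s, G.hom (e s) = s := fun s ↦ by
    show (η[G].left ≫ G.hom) s = s
    rw [Over.w η[G]]; rfl
  have h : {s | p s} = e ⁻¹' W := by
    ext s
    exact ⟨fun h ↦ (hp s).1 h _ (he s), fun h ↦ (hp s).2 fun x hx ↦ hinv _ _ ((he s).trans hx.symm) h⟩
  refine ⟨h ▸ hW.preimage η[G].left.continuous, Set.ext fun x ↦ ?_⟩
  rw [h]
  exact ⟨hinv x _ (he _).symm, hinv _ x (he _)⟩

end Groth.GrpschLoci
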