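import Groth.Agent.GrpschLoci.Loci
import Groth.Agent.PropsBasic2.Misc

/-!
The locus of a homomorphism of group schemes is the inverse image of the locus of the base where
the fibre homomorphism has the property.
-/

set_option autoImplicit false
universe u

open CategoryTheory CategoryTheory.Limits MonoidalCategory CartesianMonoidalCategory MonObj GrpObj
  AlgebraicGeometry

namespace Groth.GrpschLoci

variable {S : Scheme.{u}} {G H : Over S}

instance flat_fst (G H : Over S) [Flat G.hom] : Flat (fst H G).left :=
  MorphismProperty.of_isPullback (P := @Flat) (Groth.AlgGrp2.isPullback_fst_snd H G).flip ‹_›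

lemma hom_fst (u : G ⟶ H) (s : S) (z : ((Over.pullback (S.fromSpecResidueField s)).obj G).left) :
    G.hom (pullback.fst G.hom (S.fromSpecResidueField s) z) = s :=
  (congr(($(pullback.condition (f := G.hom) (g := S.fromSpecResidueField s))).base z)).trans
    (Scheme.fromSpecResidueField_apply s _)

lemma exists_point (s : S) {x : G.left} (hx : G.hom x = s) :
    ∃ z : ((Over.pullback (S.fromSpecResidueField s)).obj G).left,
      pullback.fst G.hom (S.fromSpecResidueField s) z = x := by
  subst hx
  exact ⟨G.hom.asFiber x, G.hom.fiberι_asFiber x⟩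

/-- Flatness of the fibre homomorphism gives flatness of the homomorphism. -/
theorem flat_at_of_fibre [Flat G.hom] [LocallyOfFinitePresentation G.hom]
    [LocallyOfFiniteType H.hom] (u : G ⟶ H) (x : G.left) {s : S} (hs : H.hom (u.left x) = s)
    [Flat ((Over.pullback (S.fromSpecResidueField s)).map u).left] :
    (u.left.stalkMap x).hom.Flat := by
  subst hs
  haveI : Flat (u.left ≫ H.hom) := by rw [Over.w]; infer_instance
  haveI : LocallyOfFinitePresentation (u.left ≫ H.hom) := by rw [Over.w]; infer_instance
  refine (Groth.AlgSp2.FlatFib.flat_at_iff_fibre u.left H.hom x).mpr ?_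
  set s := H.hom (u.left x)
  have h1 := Groth.AlgSp2.FlatFib.isPullback_fiberMap u.left H.hom s
  have h2 := Groth.GrpschAbsch.FibreFlat.isPullback_map (S.fromSpecResidueField s) u
  haveI : Flat (MoreMor.fiberMap u.left H.hom s) := by
    rw [← h1.isoIsPullback_hom_snd _ _ h2]
    exact (MorphismProperty.cancel_left_of_respectsIso @Flat _ _).mpr
      (inferInstance : Flat ((Over.pullback (S.fromSpecResidueField s)).map u).left)
  exact Flat.stalkMap _ _

variable [GrpObj G] [GrpObj H] (u : G ⟶ H) [IsMonHom u]

/-- The locus of a local property. -/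
theorem locus_eq (P : MorphismProperty Scheme.{u}) [IsZariskiLocalAtSource P]
    [P.IsStableUnderBaseChange]
    (hdesc : ∀ z : (G ⊗ G).left, Near P (u ▷ G).left z → Near P u.left ((fst G G).left z))
    (hfib : ∀ s, P ((Over.pullback (S.fromSpecResidueField s)).map u).left →
      ∀ x : G.left, G.hom x = s → Near P u.left x) :
    IsOpen {s : S | P ((Over.pullback (S.fromSpecResidueField s)).map u).left} ∧
      {x : G.left | Near P u.left x} =
        G.hom.base ⁻¹' {s : S | P ((Over.pullback (S.fromSpecResidueField s)).map u).left} := by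
  refine isOpen_locus (isOpen_near P u.left) (fun x y hxy hx ↦ invariant u (fun _ _ f x ↦ Near P f x)
    (fun _ _ _ _ _ _ _ _ H x' h ↦ h.bc H) hdesc hxy hx) _ fun s ↦ ⟨hfib s, fun h ↦ ?_⟩
  refine all_iff.mpr fun z ↦ ?_
  exact Near.bc (Groth.GrpschAbsch.FibreFlat.isPullback_map (S.fromSpecResidueField s) u)
    (h _ (hom_fst u s z))

/-- The flat locus. -/
theorem flat_locus_eq [Flat G.hom] [LocallyOfFinitePresentation G.hom] [LocallyOfFiniteType H.hom] :
    IsOpen {s : S | Flat ((Over.pullback (S.fromSpecResidueField s)).map u).left} ∧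
      {x : G.left | (u.left.stalkMap x).hom.Flat} =
        G.hom.base ⁻¹' {s : S | Flat ((Over.pullback (S.fromSpecResidueField s)).map u).left} := by
  haveI : Flat (u.left ≫ H.hom) := by rw [Over.w]; infer_instance
  haveI : LocallyOfFinitePresentation (u.left ≫ H.hom) := by rw [Over.w]; infer_instance
  refine isOpen_locus (Groth.AlgSp2.FlatFib.isOpen_flatLocus u.left H.hom)
    (fun x y hxy hx ↦ invariant u (fun _ _ f x ↦ (f.stalkMap x).hom.Flat)
      (fun _ _ _ _ g' _ _ _ H x' h ↦ Groth.Misc13.FlatBC.flat_stalkMap_baseChange H.flip x' h)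
      (fun z hz ↦ ?_) hxy hx) _ fun s ↦ ⟨fun h x hx ↦ ?_, fun h ↦ ?_⟩
  · have h1 := Groth.AlgSp2.FlatFib.flat_at_comp (u ▷ G).left (fst H G).left z hz (Flat.stalkMap _ _)
    have e : (u ▷ G).left ≫ (fst H G).left = (fst G G).left ≫ u.left := by
      rw [← Over.comp_left, ← Over.comp_left, whiskerRight_fst]
    rw [e] at h1
    exact Groth.AlgSp2.FlatFib.flat_at_of_comp (fst G G).left u.left z (Flat.stalkMap _ _) h1
  · have e : H.hom (u.left x) = s := (congr(($(Over.w u)).base x)).trans hx
    haveI := h
    exact flat_at_of_fibre u x e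
  · refine Flat.of_stalkMap _ fun z ↦ ?_
    exact Groth.Misc13.FlatBC.flat_stalkMap_baseChange
      (Groth.GrpschAbsch.FibreFlat.isPullback_map (S.fromSpecResidueField s) u).flip z
      (h _ (hom_fst u s z))

/-- The smooth locus. -/
theorem smooth_locus_eq [Flat G.hom] [LocallyOfFinitePresentation G.hom]
    [LocallyOfFiniteType H.hom] :
    IsOpen {s : S | Smooth ((Over.pullback (S.fromSpecResidueField s)).map u).left} ∧
      {x : G.left | Near @Smooth u.left x} =
        G.hom.base ⁻¹' {s : S | Smooth ((Over.pullback (S.fromSpecResidueField s)).map u).left} := by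
  haveI : LocallyOfFinitePresentation (u.left ≫ H.hom) := by rw [Over.w]; infer_instance
  haveI : LocallyOfFinitePresentation u.left := Groth.PropsBasic2.lfp_of_comp u.left H.hom
  refine locus_eq u @Smooth (fun z hz ↦
    Near.smooth_descend (Groth.AlgGrp2.isPullback_whiskerRight_fst G u).flip hz) fun s h x hx ↦ ?_
  obtain ⟨z, hz⟩ := exists_point (G := G) s hx
  have e : H.hom (u.left x) = s := (congr(($(Over.w u)).base x)).trans hx
  haveI := h
  subst hz
  exact Near.smooth_of_flat (Groth.GrpschAbsch.FibreFlat.isPullback_map _ u)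
    (flat_at_of_fibre u _ e) (Near.of_all h z)

/-- The unramified locus. -/
theorem unramified_locus_eq [LocallyOfFiniteType u.left] :
    IsOpen {s : S | FormallyUnramified ((Over.pullback (S.fromSpecResidueField s)).map u).left} ∧
      {x : G.left | Near @FormallyUnramified u.left x} = G.hom.base ⁻¹'
        {s : S | FormallyUnramified ((Over.pullback (S.fromSpecResidueField s)).map u).left} := by
  refine locus_eq u @FormallyUnramified (fun z hz ↦
    Near.unramified_descend (Groth.AlgGrp2.isPullback_whiskerRight_fst G u).flip hz) fun s h x hx ↦ ?_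
  obtain ⟨z, hz⟩ := exists_point (G := G) s hx
  exact hz ▸ Near.unramified_descend (Groth.GrpschAbsch.FibreFlat.isPullback_map _ u)
    (Near.of_all h z)

/-- The quasi-finite locus. -/
theorem lqf_locus_eq [LocallyOfFiniteType u.left] :
    IsOpen {s : S | LocallyQuasiFinite ((Over.pullback (S.fromSpecResidueField s)).map u).left} ∧
      {x : G.left | Near @LocallyQuasiFinite u.left x} = G.hom.base ⁻¹'
        {s : S | LocallyQuasiFinite ((Over.pullback (S.fromSpecResidueField s)).map u).left} := by
  refine locus_eq u @LocallyQuasiFinite (fun z hz ↦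
    Near.lqf_descend (Groth.AlgGrp2.isPullback_whiskerRight_fst G u).flip hz) fun s h x hx ↦ ?_
  obtain ⟨z, hz⟩ := exists_point (G := G) s hx
  exact hz ▸ Near.lqf_descend (Groth.GrpschAbsch.FibreFlat.isPullback_map _ u) (Near.of_all h z)

/-- The étale locus. -/
theorem etale_locus_eq [Flat G.hom] [LocallyOfFinitePresentation G.hom]
    [LocallyOfFiniteType H.hom] :
    IsOpen {s : S | Etale ((Over.pullback (S.fromSpecResidueField s)).map u).left} ∧
      {x : G.left | Near @Etale u.left x} =
        G.hom.base ⁻¹' {s : S | Etale ((Over.pullback (S.fromSpecResidueField s)).map u).left} := by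
  haveI : LocallyOfFinitePresentation (u.left ≫ H.hom) := by rw [Over.w]; infer_instance
  haveI : LocallyOfFinitePresentation u.left := Groth.PropsBasic2.lfp_of_comp u.left H.hom
  refine locus_eq u @Etale (fun z hz ↦
    Near.etale_descend (Groth.AlgGrp2.isPullback_whiskerRight_fst G u).flip hz) fun s h x hx ↦ ?_
  haveI := h
  exact near_etale_iff.mpr ⟨(smooth_locus_eq u).2.symm.le (hx ▸ (inferInstance : Smooth
      ((Over.pullback (S.fromSpecResidueField s)).map u).left) :),
    (unramified_locus_eq u).2.symm.le (hx ▸ (inferInstance : FormallyUnramified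
      ((Over.pullback (S.fromSpecResidueField s)).map u).left) :)⟩

end Groth.GrpschLoci
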