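import Groth.Agent.GrpschLoci.Fibres

/-!
Properties of a homomorphism of group schemes read on its kernel.
-/

set_option autoImplicit false
universe u

open CategoryTheory CategoryTheory.Limits MonoidalCategory CartesianMonoidalCategory MonObj GrpObj
  AlgebraicGeometry

namespace Groth.GrpschLoci

variable {S : Scheme.{u}} {G H K : Over S} [GrpObj G] [GrpObj H] [GrpObj K] (u : G ⟶ H) [IsMonHom u]
  (P : MorphismProperty Scheme.{u}) [IsZariskiLocalAtSource P]

/-- From the set equality of `locus_eq`, a property holds iff it holds on fibres. -/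
theorem iff_fibres_of_locus_eq
    (h : {x : G.left | Near P u.left x} =
      G.hom.base ⁻¹' {s : S | P ((Over.pullback (S.fromSpecResidueField s)).map u).left}) :
    P u.left ↔ ∀ s : S, P ((Over.pullback (S.fromSpecResidueField s)).map u).left := by
  refine ⟨fun hu s ↦ ?_, fun hs ↦ all_iff.mpr fun x ↦ h.ge (hs _)⟩
  have he : G.hom (η[G].left s) = s := by
    show (η[G].left ≫ G.hom) s = s
    rw [Over.w η[G]]; rfl
  exact he ▸ h.le (Near.of_all hu (η[G].left s))

/-- The kernel square on underlying schemes. -/
lemma isPullback_kernel (i : K ⟶ G) (hK : AlgGrp.IsKernel i u) :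
    IsPullback i.left K.hom u.left η[H].left := by
  have h := hK.map (Over.forget S)
  have e : (toUnit K).left = K.hom := (Category.comp_id _).symm.trans (Over.w (toUnit K))
  simpa [e] using h

/-- A property of a homomorphism is read on the kernel. -/
theorem iff_kernel [P.IsStableUnderBaseChange] (i : K ⟶ G) [IsMonHom i]
    (hK : AlgGrp.IsKernel i u)
    (hdescK : ∀ k : K.left, Near P K.hom k → Near P u.left (i.left k))
    (h : {x : G.left | Near P u.left x} =
      G.hom.base ⁻¹' {s : S | P ((Over.pullback (S.fromSpecResidueField s)).map u).left}) :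
    P u.left ↔ P K.hom := by
  refine ⟨fun hu ↦ MorphismProperty.of_isPullback (isPullback_kernel u i hK) hu, fun hk ↦ ?_⟩
  refine (iff_fibres_of_locus_eq u P h).mpr fun s ↦ ?_
  have he : G.hom (η[G].left s) = s := by
    show (η[G].left ≫ G.hom) s = s
    rw [Over.w η[G]]; rfl
  have e : i.left (η[K].left s) = η[G].left s := congr(($(IsMonHom.one_hom i)).left.base s)
  exact he ▸ h.le (e ▸ hdescK _ (Near.of_all hk _))

end Groth.GrpschLoci
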