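import Groth.Agent.GrpschLoci.LftFieldDescend
import Groth.Agent.GrpschSep.AnyTypeField

/-!
A group scheme over a field which is locally of finite type near one point is locally of finite type.
-/

set_option autoImplicit false
universe u

open CategoryTheory CategoryTheory.Limits MonoidalCategory CartesianMonoidalCategory MonObj GrpObj
  AlgebraicGeometry

namespace Groth.GrpschLoci

theorem lft_of_near {k : Type u} [Field k] (G : Over (Spec (CommRingCat.of k))) [GrpObj G] {g : G.left}
    (hg : Near @LocallyOfFiniteType G.hom g) : LocallyOfFiniteType G.hom := by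
  refine all_iff.mpr fun x => ?_
  obtain ⟨z, hz₁, hz₂⟩ := Groth.GrpschSep.exists_preimage_of_isPullback
    (Groth.AlgGrp2.isPullback_fst_snd G G) g x (Subsingleton.elim _ _)
  obtain ⟨K, _, _, t, P, hP⟩ := Groth.GrpschSep.exists_geomPoint (G ⊗ G) z
  let gT : Over.mk t ⟶ G := P ≫ fst _ _
  let xT : Over.mk t ⟶ G := P ≫ snd _ _
  let gam : Over.mk t ⟶ G := xT * gT⁻¹
  let L : G ⊗ Over.mk t ≅ G ⊗ Over.mk t :=
    { hom := lift ((snd _ _ ≫ gam) * fst _ _) (snd _ _)
      inv := lift ((snd _ _ ≫ gam)⁻¹ * fst _ _) (snd _ _)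
      hom_inv_id := by
        apply CartesianMonoidalCategory.hom_ext <;> simp [MonObj.comp_mul, GrpObj.comp_inv]
      inv_hom_id := by
        apply CartesianMonoidalCategory.hom_ext <;> simp [MonObj.comp_mul, GrpObj.comp_inv] }
  haveI : IsIso L.inv.left := ((Over.forget _).mapIso L).isIso_inv
  let g' := (lift gT (𝟙 (Over.mk t))).left (IsLocalRing.closedPoint K)
  let x' := (lift xT (𝟙 (Over.mk t))).left (IsLocalRing.closedPoint K)
  have hfg : (fst G (Over.mk t)).left g' = g := by
    rw [← Scheme.Hom.comp_apply, ← Over.comp_left, lift_fst, Over.comp_left, Scheme.Hom.comp_apply, hP]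
    exact hz₁
  have hfx : (fst G (Over.mk t)).left x' = x := by
    rw [← Scheme.Hom.comp_apply, ← Over.comp_left, lift_fst, Over.comp_left, Scheme.Hom.comp_apply, hP]
    exact hz₂
  have sq := Groth.AlgGrp2.isPullback_fst_snd G (Over.mk t)
  have h1 : Near @LocallyOfFiniteType (snd G (Over.mk t)).left g' := Near.bc sq (hfg.symm ▸ hg)
  have hL : L.inv.left x' = g' := by
    have h : lift xT (𝟙 (Over.mk t)) ≫ L.inv = lift gT (𝟙 _) := by
      apply CartesianMonoidalCategory.hom_ext <;> simp [L, gam, MonObj.comp_mul, GrpObj.comp_inv]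
    exact congr(($h).left.base (IsLocalRing.closedPoint K))
  have h2 : Near @LocallyOfFiniteType (snd G (Over.mk t)).left x' := by
    have sqL : IsPullback L.inv.left (snd G (Over.mk t)).left (snd G (Over.mk t)).left (𝟙 _) :=
      IsPullback.of_horiz_isIso ⟨by rw [← Over.comp_left, Category.comp_id]; congr 1; simp [L]⟩
    exact Near.bc sqL (hL.symm ▸ h1)
  exact hfx ▸ Near.lft_descend_field sq h2

end Groth.GrpschLoci
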