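import Groth.Agent.GrpschLoci.Basic
import Groth.Agent.AlgSp2.FlatFibreScheme
import Groth.Agent.PropsBasic.LociBaseChange.Scheme
import Groth.Agent.FlatMor2.FibCrit.Fibrewise

/-!
The loci of flatness, smoothness, étaleness, unramifiedness and quasi-finiteness of a
homomorphism of group schemes.
-/

set_option autoImplicit false
universe u

open CategoryTheory CategoryTheory.Limits MonoidalCategory CartesianMonoidalCategory MonObj GrpObj
  AlgebraicGeometry

namespace Groth.GrpschLoci

/-- A property of morphisms holds on some open neighbourhood of a point. -/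
def Near (P : MorphismProperty Scheme.{u}) {X Y : Scheme.{u}} (f : X ⟶ Y) (x : X) : Prop :=
  ∃ U : X.Opens, x ∈ U ∧ P (U.ι ≫ f)

section General

variable {P : MorphismProperty Scheme.{u}} {X Y X' Y' : Scheme.{u}} {f : X ⟶ Y}
  {g' : X' ⟶ X} {f' : X' ⟶ Y'} {g : Y' ⟶ Y}

theorem Near.bc [P.IsStableUnderBaseChange] (H : IsPullback g' f' f g) {x' : X'}
    (h : Near P f (g' x')) : Near P f' x' := by
  obtain ⟨U, hU, hP⟩ := h
  exact ⟨g' ⁻¹ᵁ U, hU, MorphismProperty.of_isPullback
    ((isPullback_morphismRestrict g' U).paste_vert H) hP⟩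

theorem isOpen_near (P : MorphismProperty Scheme.{u}) (f : X ⟶ Y) : IsOpen {x | Near P f x} :=
  isOpen_iff_forall_mem_open.mpr fun x ⟨U, hU, hP⟩ ↦ ⟨U, fun y hy ↦ ⟨U, hy, hP⟩, U.2, hU⟩

theorem Near.of_all (h : P f) [IsZariskiLocalAtSource P] (x : X) : Near P f x :=
  ⟨⊤, trivial, IsZariskiLocalAtSource.comp h _⟩

theorem all_iff [IsZariskiLocalAtSource P] : P f ↔ ∀ x, Near P f x := by
  refine ⟨fun h x ↦ Near.of_all h x, fun h ↦ ?_⟩
  choose U hU hP using h
  exact IsZariskiLocalAtSource.of_iSup_eq_top U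
    (top_le_iff.mp fun x _ ↦ TopologicalSpace.Opens.mem_iSup.mpr ⟨x, hU x⟩) hP

end General

variable {X Y X' Y' : Scheme.{u}} {f : X ⟶ Y} {g' : X' ⟶ X} {f' : X' ⟶ Y'} {g : Y' ⟶ Y}

theorem near_smooth_iff [LocallyOfFinitePresentation f] {x : X} :
    Near @Smooth f x ↔ x ∈ f.smoothLocus := by
  constructor
  · rintro ⟨U, hU, hS⟩
    have h : (⟨x, hU⟩ : U) ∈ U.ι ⁻¹ᵁ f.smoothLocus := by
      rw [Scheme.Hom.preimage_smoothLocus_eq, Scheme.Hom.smoothLocus_eq_top]; trivial
    exact h
  · intro hx
    refine ⟨f.smoothLocus, hx, ?_⟩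
    rw [← Scheme.Hom.smoothLocus_eq_top_iff, ← Scheme.Hom.preimage_smoothLocus_eq]
    exact top_le_iff.mp fun p _ ↦ p.2

theorem near_smooth_flat [LocallyOfFinitePresentation f] {x : X} (h : Near @Smooth f x) :
    (f.stalkMap x).hom.Flat :=
  Groth.PropsBasic.Loci.flat_stalkMap_of_mem_smoothLocus (near_smooth_iff.mp h)

/-- Descent of smoothness at a point along a flat base change. -/
theorem Near.smooth_descend [LocallyOfFinitePresentation f] (H : IsPullback g' f' f g) [Flat g]
    {x' : X'} (h : Near @Smooth f' x') : Near @Smooth f (g' x') := by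
  haveI : LocallyOfFinitePresentation f' := MorphismProperty.of_isPullback H inferInstance
  exact near_smooth_iff.mpr (Groth.PropsBasic.Loci.mem_smoothLocus_of_flat H (near_smooth_iff.mp h))

/-- Smoothness at a point from flatness and smoothness after a base change. -/
theorem Near.smooth_of_flat [LocallyOfFinitePresentation f] (H : IsPullback g' f' f g) {x' : X'}
    (hflat : (f.stalkMap (g' x')).hom.Flat) (h : Near @Smooth f' x') :
    Near @Smooth f (g' x') := by
  haveI : LocallyOfFinitePresentation f' := MorphismProperty.of_isPullback H inferInstance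
  rw [near_smooth_iff] at h ⊢
  let y' := f' x'
  have hb := isPullback_fiberToSpecResidueField_of_isPullback H y'
  haveI : LocallyOfFinitePresentation (f'.fiberToSpecResidueField y') :=
    MorphismProperty.pullback_snd (P := @LocallyOfFinitePresentation) _ _ ‹LocallyOfFinitePresentation f'›
  have hx' : f'.asFiber x' ∈ (f'.fiberToSpecResidueField y').smoothLocus :=
    Groth.PropsBasic.Loci.preimage_smoothLocus_le
      (IsPullback.of_hasPullback f' (Y'.fromSpecResidueField y'))
      (show f'.fiberι y' (f'.asFiber x') ∈ f'.smoothLocus by rw [f'.fiberι_asFiber]; exact h)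
  haveI : Flat (Spec.map (g.residueFieldMap y')) := by
    rw [HasRingHomProperty.Spec_iff (P := @Flat)]
    algebraize [(g.residueFieldMap y').hom]
    rw [← (g.residueFieldMap y').hom.algebraMap_toAlgebra, RingHom.flat_algebraMap_iff]
    infer_instance
  haveI : LocallyOfFinitePresentation (f.fiberToSpecResidueField (g y')) :=
    MorphismProperty.pullback_snd (P := @LocallyOfFinitePresentation) _ _ ‹LocallyOfFinitePresentation f›
  have h1 := @Groth.PropsBasic.Loci.mem_smoothLocus_of_flat _ _ _ _ _ _ _ _ hb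
    ‹LocallyOfFinitePresentation (f.fiberToSpecResidueField (g y'))›
    (MorphismProperty.pullback_snd (P := @LocallyOfFinitePresentation) _ _ ‹LocallyOfFinitePresentation f'›)
    ‹_› _ hx'
  set q := pullback.map f' (Y'.fromSpecResidueField y') f (Y.fromSpecResidueField (g y')) g'
    (Spec.map (g.residueFieldMap y')) g H.w.symm (by simp)
  have hxy : f (g' x') = g y' := congr(($(H.w)).base x')
  have key : f.fiberι (g y') (q (f'.asFiber x')) = g' x' := by
    have e : q ≫ f.fiberι (g y') = f'.fiberι y' ≫ g' := pullback.lift_fst _ _ _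
    have e' : (q ≫ f.fiberι (g y')) (f'.asFiber x') = (f'.fiberι y' ≫ g') (f'.asFiber x') :=
      congr(($e).base (f'.asFiber x'))
    exact e'.trans (congrArg g' (f'.fiberι_asFiber x'))
  suffices ∀ (y : Y) (hy : f (g' x') = y) (z : f.fiber y), f.fiberι y z = g' x' →
      z ∈ (f.fiberToSpecResidueField y).smoothLocus → g' x' ∈ f.smoothLocus from
    this _ hxy _ key h1
  rintro y rfl z hz hzs
  refine Groth.PropsBasic.Loci.mem_smoothLocus_of_fiber hflat ?_
  rwa [Groth.FlatMor2.FibCrit.asFiber_eq (g' x') z hz] at hzs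

/-- Descent of unramifiedness at a point along any base change. -/
theorem Near.unramified_descend [LocallyOfFiniteType f] (H : IsPullback g' f' f g) {x' : X'}
    (h : Near @FormallyUnramified f' x') : Near @FormallyUnramified f (g' x') :=
  haveI : LocallyOfFiniteType f' := MorphismProperty.of_isPullback H inferInstance
  Groth.PropsBasic.Loci.exists_formallyUnramified_of_baseChange H h

theorem near_etale_iff [LocallyOfFinitePresentation f] {x : X} :
    Near @Etale f x ↔ Near @Smooth f x ∧ Near @FormallyUnramified f x := by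
  refine ⟨fun ⟨U, hU, hE⟩ ↦ ⟨⟨U, hU, inferInstance⟩, ⟨U, hU, inferInstance⟩⟩,
    fun ⟨⟨U, hU, hS⟩, ⟨V, hV, hN⟩⟩ ↦ ⟨U ⊓ V, ⟨hU, hV⟩, ?_⟩⟩
  have e₁ : X.homOfLE (inf_le_left : U ⊓ V ≤ U) ≫ U.ι ≫ f = (U ⊓ V).ι ≫ f := by simp
  have e₂ : X.homOfLE (inf_le_right : U ⊓ V ≤ V) ≫ V.ι ≫ f = (U ⊓ V).ι ≫ f := by simp
  haveI : Smooth ((U ⊓ V).ι ≫ f) := e₁ ▸ IsZariskiLocalAtSource.comp hS _
  haveI : FormallyUnramified ((U ⊓ V).ι ≫ f) := e₂ ▸ IsZariskiLocalAtSource.comp hN _
  exact Etale.of_formallyUnramified_of_flat _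

/-- Descent of étaleness at a point along a flat base change. -/
theorem Near.etale_descend [LocallyOfFinitePresentation f] (H : IsPullback g' f' f g) [Flat g]
    {x' : X'} (h : Near @Etale f' x') : Near @Etale f (g' x') := by
  haveI : LocallyOfFinitePresentation f' := MorphismProperty.of_isPullback H inferInstance
  rw [near_etale_iff] at h ⊢
  exact ⟨h.1.smooth_descend H, h.2.unramified_descend H⟩

theorem near_lqf_iff [LocallyOfFiniteType f] {x : X} :
    Near @LocallyQuasiFinite f x ↔ f.QuasiFiniteAt x := by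
  constructor
  · rintro ⟨U, hU, hQ⟩
    haveI : LocallyQuasiFinite (U.ι ≫ f) := hQ
    have h := Scheme.Hom.quasiFiniteAt (U.ι ≫ f) (⟨x, hU⟩ : U.toScheme)
    rw [Scheme.Hom.quasiFiniteAt_comp_iff_of_isOpenImmersion] at h
    exact h
  · intro hx
    refine ⟨f.quasiFiniteLocus, hx, ?_⟩
    have hall : ∀ z, (f.quasiFiniteLocus.ι ≫ f).QuasiFiniteAt z := fun z ↦
      Scheme.Hom.quasiFiniteAt_comp_iff_of_isOpenImmersion.mpr z.2
    have hp : LocallyOfFiniteType (f.quasiFiniteLocus.ι ≫ f) := inferInstance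
    generalize f.quasiFiniteLocus.ι ≫ f = p at hall hp ⊢
    refine locallyQuasiFinite_iff_isDiscrete_preimage_singleton.mpr fun y ↦ ?_
    rw [isDiscrete_iff_discreteTopology, discreteTopology_iff_isOpen_singleton]
    rintro ⟨z, hz⟩
    obtain rfl : p z = y := hz
    have h := (p.fiberHomeo (p z)).isOpenMap _
      (Scheme.Hom.quasiFiniteAt_iff_isOpen_singleton_asFiber.mp (hall z))
    simpa [Scheme.Hom.asFiber] using h

/-- Descent of quasi-finiteness at a point along any base change. -/
theorem Near.lqf_descend [LocallyOfFiniteType f] (H : IsPullback g' f' f g) {x' : X'}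
    (h : Near @LocallyQuasiFinite f' x') : Near @LocallyQuasiFinite f (g' x') := by
  haveI : LocallyOfFiniteType f' := MorphismProperty.of_isPullback H inferInstance
  rw [near_lqf_iff, Scheme.Hom.quasiFiniteAt_iff_isOpen_singleton_asFiber] at h ⊢
  let y' := f' x'
  have hb := isPullback_fiberToSpecResidueField_of_isPullback H y'
  set q := pullback.map f' (Y'.fromSpecResidueField y') f (Y.fromSpecResidueField (g y')) g'
    (Spec.map (g.residueFieldMap y')) g H.w.symm (by simp)
  haveI : UniversallyOpen q := MorphismProperty.of_isPullback hb.flip inferInstance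
  have hxy : f (g' x') = g y' := congr(($(H.w)).base x')
  have key : f.fiberι (g y') (q (f'.asFiber x')) = g' x' := by
    have e : q ≫ f.fiberι (g y') = f'.fiberι y' ≫ g' := pullback.lift_fst _ _ _
    have e' : (q ≫ f.fiberι (g y')) (f'.asFiber x') = (f'.fiberι y' ≫ g') (f'.asFiber x') :=
      congr(($e).base (f'.asFiber x'))
    exact e'.trans (congrArg g' (f'.fiberι_asFiber x'))
  have hq : IsOpen {q (f'.asFiber x')} := by
    have := q.isOpenMap _ h
    convert this using 1
    exact Set.image_singleton.symm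
  suffices ∀ (y : Y) (hy : f (g' x') = y) (z : f.fiber y), f.fiberι y z = g' x' →
      IsOpen {z} → IsOpen {f.asFiber (g' x')} from this _ hxy _ key hq
  rintro y rfl z hz hzs
  rwa [Groth.FlatMor2.FibCrit.asFiber_eq (g' x') z hz] at hzs

end Groth.GrpschLoci
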