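import Mathlib.AlgebraicGeometry.Morphisms.FiniteType
import Mathlib.AlgebraicGeometry.Morphisms.UniversallyOpen
import Mathlib.RingTheory.Spectrum.Prime.Chevalley
import Mathlib.LinearAlgebra.TensorProduct.RightExactness
import Groth.Agent.GrpschLoci.Loci

/-!
Being locally of finite type at a point descends along field extensions.
-/

set_option autoImplicit false
universe u

open CategoryTheory CategoryTheory.Limits AlgebraicGeometry TensorProduct

namespace Groth.GrpschLoci

variable {k B K : Type u} [Field k] [CommRing B] [Algebra k B] [Field K] [Algebra k K]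

/-- Finite type near a point descends along a field extension. -/
theorem exists_finiteType_away (f : B ⊗[k] K) (Q : PrimeSpectrum (B ⊗[k] K)) (hQ : f ∉ Q.asIdeal)
    (hft : ((algebraMap (B ⊗[k] K) (Localization.Away f)).comp
      (Algebra.TensorProduct.includeRight (R := k) (A := B) (B := K)).toRingHom).FiniteType) :
    ∃ b : B, b ∉ (PrimeSpectrum.comap (algebraMap B (B ⊗[k] K)) Q).asIdeal ∧
      (algebraMap k (Localization.Away b)).FiniteType := by
  classical
  let C := B ⊗[k] K
  let Cf := Localization.Away f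
  letI algK : Algebra K Cf :=
    ((algebraMap C Cf).comp (Algebra.TensorProduct.includeRight (R := k) (A := B) (B := K)).toRingHom).toAlgebra
  obtain ⟨s, hs⟩ := (hft : Algebra.FiniteType K Cf).out
  choose c m hm using fun z : Cf => IsLocalization.Away.surj f z
  -- finitely many coefficients
  have coef : ∀ z : C, ∃ S : Finset B, ∀ D : Subalgebra k B, (S : Set B) ⊆ D →
      z ∈ (Algebra.TensorProduct.map D.val (AlgHom.id k K)).range := by
    intro z
    induction z using TensorProduct.induction_on with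
    | zero => exact ⟨∅, fun D _ => zero_mem _⟩
    | tmul b x => exact ⟨{b}, fun D hD => ⟨⟨b, hD (by simp)⟩ ⊗ₜ x, rfl⟩⟩
    | add x y hx hy =>
      obtain ⟨S, hS⟩ := hx; obtain ⟨T, hT⟩ := hy
      exact ⟨S ∪ T, fun D hD => add_mem (hS D fun b hb => hD (by simp [Finset.mem_coe.mp hb]))
        (hT D fun b hb => hD (by simp [Finset.mem_coe.mp hb]))⟩
  choose S hS using coef
  let T : Finset B := S f ∪ s.biUnion fun z => S (m z)
  let B0 : Subalgebra k B := Algebra.adjoin k (T : Set B)
  haveI : Algebra.FiniteType k B0 :=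
    (Subalgebra.fg_iff_finiteType _).mp ⟨T, rfl⟩
  let j : (B0 ⊗[k] K) →ₐ[k] C := Algebra.TensorProduct.map B0.val (AlgHom.id k K)
  have hj : Function.Injective j :=
    Module.Flat.rTensor_preserves_injective_linearMap (M := K) B0.val.toLinearMap Subtype.val_injective
  obtain ⟨f0, hf0⟩ : f ∈ j.range := hS f B0 fun b hb => Algebra.subset_adjoin (by simp [T, Finset.mem_coe.mp hb])
  have hj0 : j f0 = f := hf0
  -- every element is in the range up to a power of `f`
  have hpow : ∀ z : C, ∃ N : ℕ, f ^ N * z ∈ j.range := by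
    have hall : ∀ w ∈ Algebra.adjoin K (s : Set Cf),
        ∃ (N : ℕ), ∃ y ∈ j.range, w * algebraMap C Cf f ^ N = algebraMap C Cf y := by
      intro w hw
      induction hw using Algebra.adjoin_induction with
      | mem z hz =>
        exact ⟨c z, m z, hS (m z) B0 (fun b hb => Algebra.subset_adjoin (by
          simp only [T, Finset.coe_union, Set.mem_union, Finset.mem_coe, Finset.mem_biUnion]
          exact Or.inr ⟨z, hz, Finset.mem_coe.mp hb⟩)), hm z⟩
      | algebraMap r =>
        exact ⟨0, (1 : B) ⊗ₜ[k] r, ⟨(1 : B0) ⊗ₜ r, rfl⟩, by rw [pow_zero, _root_.mul_one]; rfl⟩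
      | add x y _ _ hx hy =>
        obtain ⟨N, a, ha, ha'⟩ := hx; obtain ⟨M, b, hb, hb'⟩ := hy
        have hfm : f ∈ j.range := ⟨f0, hj0⟩
        refine ⟨N + M, a * f ^ M + b * f ^ N, add_mem (mul_mem ha (pow_mem hfm _))
          (mul_mem hb (pow_mem hfm _)), ?_⟩
        rw [map_add, map_mul, map_mul, ← ha', ← hb', map_pow, map_pow]
        ring
      | mul x y _ _ hx hy =>
        obtain ⟨N, a, ha, ha'⟩ := hx; obtain ⟨M, b, hb, hb'⟩ := hy
        refine ⟨N + M, a * b, mul_mem ha hb, ?_⟩
        rw [map_mul, ← ha', ← hb']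
        ring
    intro z
    obtain ⟨N, y, ⟨y0, hy0⟩, hy⟩ := hall (algebraMap C Cf z) (hs ▸ Algebra.mem_top)
    rw [← map_pow, ← map_mul] at hy
    obtain ⟨n, hn⟩ := IsLocalization.Away.exists_of_eq f hy
    refine ⟨n + N, f0 ^ n * y0, ?_⟩
    rw [map_mul, map_pow]
    show j f0 ^ n * j y0 = _
    rw [hj0, show j y0 = y from hy0, ← hn]
    ring
  -- a principal open inside the image of `D(f0)`
  let Q0 : PrimeSpectrum (B0 ⊗[k] K) := PrimeSpectrum.comap j.toRingHom Q
  let U0 : Set (PrimeSpectrum B0) :=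
    PrimeSpectrum.comap (algebraMap B0 (B0 ⊗[k] K)) '' (PrimeSpectrum.basicOpen f0 : Set _)
  have hU0 : IsOpen U0 :=
    PrimeSpectrum.isOpenMap_comap_algebraMap_tensorProduct_of_field _ (PrimeSpectrum.basicOpen f0).2
  have hQ0 : f0 ∉ Q0.asIdeal := fun h => hQ (hj0 ▸ (h : j f0 ∈ Q.asIdeal))
  obtain ⟨_, ⟨b, rfl⟩, hqb, hbU⟩ :=
    PrimeSpectrum.isTopologicalBasis_basic_opens.exists_subset_of_mem_open
      (⟨Q0, hQ0, rfl⟩ : PrimeSpectrum.comap (algebraMap B0 (B0 ⊗[k] K)) Q0 ∈ U0) hU0
  refine ⟨b.1, fun h => hqb ?_, ?_⟩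
  · show algebraMap B0 (B0 ⊗[k] K) b ∈ Q0.asIdeal
    show j (b ⊗ₜ 1) ∈ Q.asIdeal
    exact h
  have key : ∀ β : B, ∃ N : ℕ, b.1 ^ N * β ∈ B0 := by
    intro β
    let B0' : Submodule B0 B := LinearMap.range (Algebra.linearMap B0 B)
    let r : B0 →ₗ[k] B ⧸ B0.toSubmodule :=
      B0.toSubmodule.mkQ ∘ₗ (LinearMap.mulRight k β) ∘ₗ B0.val.toLinearMap
    let I : Ideal B0 :=
      { carrier := {x | x.1 * β ∈ B0}
        add_mem' := fun {x y} hx hy => by
          show (x.1 + y.1) * β ∈ B0
          rw [_root_.add_mul]; exact add_mem hx hy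
        zero_mem' := by show (0 : B) * β ∈ B0; rw [zero_mul]; exact zero_mem _
        smul_mem' := fun c x hx => by
          show (c.1 * x.1) * β ∈ B0
          rw [_root_.mul_assoc]; exact mul_mem c.2 hx }
    have hker : LinearMap.ker r = I.restrictScalars k := by
      ext x
      exact Submodule.Quotient.mk_eq_zero _
    obtain ⟨N, y, hy⟩ := hpow (β ⊗ₜ (1 : K))
    have hz : LinearMap.rTensor K r (f0 ^ N) = 0 := by
      have hlin : ∀ x : B0 ⊗[k] K, LinearMap.rTensor K r x =
          LinearMap.rTensor K B0.toSubmodule.mkQ (j x * β ⊗ₜ 1) := by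
        intro x
        induction x using TensorProduct.induction_on with
        | zero => simp
        | tmul a t =>
          rw [show j (a ⊗ₜ[k] t) = (a : B) ⊗ₜ[k] t from rfl, Algebra.TensorProduct.tmul_mul_tmul,
            _root_.mul_one, LinearMap.rTensor_tmul, LinearMap.rTensor_tmul]
          rfl
        | add x y hx hy => simp [hx, hy, _root_.add_mul]
      rw [hlin, map_pow, hj0, ← hy]
      clear hy
      induction y using TensorProduct.induction_on with
      | zero => simp
      | tmul a t =>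
        show LinearMap.rTensor K B0.toSubmodule.mkQ ((a : B) ⊗ₜ[k] t) = 0
        rw [LinearMap.rTensor_tmul, Submodule.mkQ_apply, (Submodule.Quotient.mk_eq_zero _).mpr a.2,
          TensorProduct.zero_tmul]
      | add x y hx hy => simp at hx hy ⊢; simp [hx, hy]
    have hex : Function.Exact (LinearMap.rTensor K (LinearMap.ker r).subtype) (LinearMap.rTensor K r) :=
      Module.Flat.rTensor_exact K (LinearMap.exact_subtype_ker_map r)
    obtain ⟨w, hw⟩ := (hex _).mp hz
    have hI : ∀ w, LinearMap.rTensor K (LinearMap.ker r).subtype w ∈ I.map (algebraMap B0 (B0 ⊗[k] K)) := by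
      intro w
      induction w using TensorProduct.induction_on with
      | zero => simp
      | tmul a t =>
        rw [LinearMap.rTensor_tmul]
        have : (a.1 : B0) ⊗ₜ[k] t = algebraMap B0 (B0 ⊗[k] K) a.1 * ((1 : B0) ⊗ₜ t) := by
          simp [Algebra.TensorProduct.algebraMap_apply]
        show (a.1 : B0) ⊗ₜ[k] t ∈ _
        rw [this]
        exact Ideal.mul_mem_right _ _ (Ideal.mem_map_of_mem _ (hker.le a.2))
      | add x y hx hy => rw [map_add]; exact add_mem hx hy
    have hrad : b ∈ I.radical := by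
      rw [Ideal.radical_eq_sInf, Ideal.mem_sInf]
      rintro P ⟨hIP, hP⟩
      by_contra hbP
      obtain ⟨P', hfP', hP'⟩ := hbU (show (⟨P, hP⟩ : PrimeSpectrum B0) ∈ PrimeSpectrum.basicOpen b from hbP)
      have : I.map (algebraMap B0 (B0 ⊗[k] K)) ≤ P'.asIdeal := by
        rw [Ideal.map_le_iff_le_comap]
        exact hIP.trans (le_of_eq (congrArg PrimeSpectrum.asIdeal hP').symm)
      exact hfP' (P'.isPrime.mem_of_pow_mem N (this (hw ▸ hI w)))
    obtain ⟨n, hn⟩ := hrad
    refine ⟨n, ?_⟩
    have hn' : (b ^ n : B0).1 * β ∈ B0 := hn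
    rwa [SubmonoidClass.coe_pow] at hn'
  let Bb := Localization.Away b.1
  let g : Localization.Away b →ₐ[k] Bb :=
    IsLocalization.liftAlgHom (M := Submonoid.powers b)
      (f := (IsScalarTower.toAlgHom k B Bb).comp B0.val) (by
        rintro ⟨_, n, rfl⟩
        show IsUnit (algebraMap B Bb ((b ^ n : B0) : B))
        rw [SubmonoidClass.coe_pow, map_pow]
        exact (IsLocalization.Away.algebraMap_isUnit b.1).pow n)
  haveI : Algebra.FiniteType k (Localization.Away b) :=
    Algebra.FiniteType.trans (S := B0) inferInstance inferInstance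
  have hg : Function.Surjective g := by
    intro z
    obtain ⟨n, β, hβ⟩ := IsLocalization.Away.surj b.1 z
    obtain ⟨N, hN⟩ := key β
    refine ⟨IsLocalization.mk' (Localization.Away b) (⟨b.1 ^ N * β, hN⟩ : B0)
      (⟨b ^ (N + n), N + n, rfl⟩ : Submonoid.powers b), ?_⟩
    show IsLocalization.lift _ _ = z
    rw [IsLocalization.lift_mk'_spec]
    show algebraMap B Bb (b.1 ^ N * β) = algebraMap B Bb ((b ^ (N + n) : B0) : B) * z
    rw [SubmonoidClass.coe_pow, map_mul, map_pow, map_pow, ← hβ, pow_add]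
    ring
  exact RingHom.finiteType_algebraMap.mpr (Algebra.FiniteType.of_surjective g hg)

/-- Being locally of finite type at a point descends along a field extension of the base field. -/
theorem Near.lft_descend_field {k K : Type u} [Field k] [Field K] {X X' : Scheme.{u}}
    {f : X ⟶ Spec (CommRingCat.of k)} {t : Spec (CommRingCat.of K) ⟶ Spec (CommRingCat.of k)}
    {g' : X' ⟶ X} {f' : X' ⟶ Spec (CommRingCat.of K)} (H : IsPullback g' f' f t) {x' : X'}
    (h : Near @LocallyOfFiniteType f' x') : Near @LocallyOfFiniteType f (g' x') := by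
  obtain ⟨φ, rfl⟩ := Spec.map_surjective t
  obtain ⟨_, ⟨U : X.Opens, hU, rfl⟩, hxU, -⟩ :=
    X.isBasis_affineOpens.exists_subset_of_mem_open (Set.mem_univ (g' x')) isOpen_univ
  obtain ⟨ψ, hψ⟩ := Spec.map_surjective (hU.fromSpec ≫ f)
  letI := φ.hom.toAlgebra
  letI : Algebra k Γ(X, U) := ψ.hom.toAlgebra
  let incl : CommRingCat.of Γ(X, U) ⟶ CommRingCat.of (Γ(X, U) ⊗[k] K) :=
    CommRingCat.ofHom (algebraMap Γ(X, U) (Γ(X, U) ⊗[k] K))
  let incr : CommRingCat.of K ⟶ CommRingCat.of (Γ(X, U) ⊗[k] K) :=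
    CommRingCat.ofHom (Algebra.TensorProduct.includeRight (R := k) (A := Γ(X, U)) (B := K)).toRingHom
  have sq : IsPullback (Spec.map incl) (Spec.map incr) (hU.fromSpec ≫ f) (Spec.map φ) := by
    have e1 : Spec.map (CommRingCat.ofHom (algebraMap k Γ(X, U))) = hU.fromSpec ≫ f := hψ
    have e2 : Spec.map (CommRingCat.ofHom (algebraMap k K)) = Spec.map φ := rfl
    rw [← e1, ← e2]
    refine IsPullback.of_iso (IsPullback.of_hasPullback _ _) (pullbackSpecIso k Γ(X, U) K)
      (Iso.refl _) (Iso.refl _) (Iso.refl _) ?_ ?_ (by simp) (by simp)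
    · rw [Iso.refl_hom, Category.comp_id]
      exact (pullbackSpecIso_hom_fst' k Γ(X, U) K).symm
    · rw [Iso.refl_hom, Category.comp_id]
      exact (pullbackSpecIso_hom_snd k Γ(X, U) K).symm
  have w : (Spec.map incl ≫ hU.fromSpec) ≫ f = Spec.map incr ≫ Spec.map φ := by
    rw [Category.assoc]; exact sq.w
  let e := H.lift _ _ w
  have he1 : e ≫ g' = Spec.map incl ≫ hU.fromSpec := H.lift_fst _ _ _
  have he2 : e ≫ f' = Spec.map incr := H.lift_snd _ _ _
  have hsq : IsPullback e (Spec.map incl) g' hU.fromSpec :=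
    (IsPullback.of_right (he2 ▸ sq.flip) he1 H.flip)
  haveI : IsOpenImmersion e :=
    MorphismProperty.of_isPullback (P := @IsOpenImmersion) hsq.flip inferInstance
  obtain ⟨p, rfl⟩ : x' ∈ Set.range e := by
    obtain ⟨q, hq⟩ : g' x' ∈ Set.range hU.fromSpec := by rw [hU.range_fromSpec]; exact hxU
    obtain ⟨p, hp, -⟩ := Scheme.Pullback.exists_preimage_pullback x' q hq.symm
    exact ⟨hsq.isoPullback.inv p,
      by rw [← Scheme.Hom.comp_apply, hsq.isoPullback_inv_fst, hp]⟩
  obtain ⟨O, hpO, hO⟩ := h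
  obtain ⟨_, ⟨a, rfl⟩, hpa, haO⟩ :=
    PrimeSpectrum.isTopologicalBasis_basic_opens.exists_subset_of_mem_open
      (show p ∈ e ⁻¹' (O : Set X') from hpO) (O.2.preimage e.continuous)
  let loc : CommRingCat.of (Γ(X, U) ⊗[k] K) ⟶ CommRingCat.of (Localization.Away a) :=
    CommRingCat.ofHom (algebraMap _ _)
  have hrange : Set.range (Spec.map loc ≫ e) ⊆ Set.range O.ι := by
    rintro _ ⟨z, rfl⟩
    rw [Scheme.Opens.range_ι]
    have hmem : PrimeSpectrum.comap (algebraMap _ (Localization.Away a)) z ∈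
        Set.range (PrimeSpectrum.comap (algebraMap (Γ(X, U) ⊗[k] K) (Localization.Away a))) := ⟨z, rfl⟩
    rw [PrimeSpectrum.localization_away_comap_range (Localization.Away a) a] at hmem
    exact haO hmem
  haveI : IsOpenImmersion (Spec.map loc) := IsOpenImmersion.of_isLocalization a
  have hft : LocallyOfFiniteType (Spec.map (incr ≫ loc)) := by
    haveI := hO
    rw [Spec.map_comp, ← he2, ← Category.assoc, ← IsOpenImmersion.lift_fac O.ι _ hrange, Category.assoc]
    haveI : IsOpenImmersion (IsOpenImmersion.lift O.ι (Spec.map loc ≫ e) hrange) := by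
      haveI : IsOpenImmersion (IsOpenImmersion.lift O.ι (Spec.map loc ≫ e) hrange ≫ O.ι) := by
        rw [IsOpenImmersion.lift_fac]; infer_instance
      exact IsOpenImmersion.of_comp _ O.ι
    infer_instance
  rw [HasRingHomProperty.Spec_iff (P := @LocallyOfFiniteType)] at hft
  obtain ⟨b, hb, hbft⟩ := exists_finiteType_away a p hpa hft
  let locb : CommRingCat.of Γ(X, U) ⟶ CommRingCat.of (Localization.Away b) :=
    CommRingCat.ofHom (algebraMap _ _)
  haveI : IsOpenImmersion (Spec.map locb) := IsOpenImmersion.of_isLocalization b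
  let j : Spec (CommRingCat.of (Localization.Away b)) ⟶ X := Spec.map locb ≫ hU.fromSpec
  haveI : LocallyOfFiniteType (j ≫ f) := by
    rw [Category.assoc, ← hψ, ← Spec.map_comp, HasRingHomProperty.Spec_iff (P := @LocallyOfFiniteType)]
    have : (ψ ≫ locb).hom = algebraMap k (Localization.Away b) := by
      show (algebraMap Γ(X, U) (Localization.Away b)).comp (algebraMap k Γ(X, U)) = _
      exact (IsScalarTower.algebraMap_eq k Γ(X, U) (Localization.Away b)).symm
    rw [this]
    exact hbft
  refine ⟨j.opensRange, ?_, ?_⟩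
  · rw [← Scheme.Hom.comp_apply, he1, Scheme.Hom.comp_apply]
    have hmem : Spec.map incl p ∈ Set.range (PrimeSpectrum.comap (algebraMap Γ(X, U) (Localization.Away b))) := by
      rw [PrimeSpectrum.localization_away_comap_range (Localization.Away b) b]
      exact hb
    obtain ⟨z, hz⟩ := hmem
    exact ⟨z, by show hU.fromSpec (Spec.map locb z) = _; rw [show Spec.map locb z = _ from hz]⟩
  · have e' : j.opensRange.ι = j.isoOpensRange.inv ≫ j := (Scheme.Hom.isoOpensRange_inv_comp j).symm
    rw [e', Category.assoc]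
    infer_instance

end Groth.GrpschLoci
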