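import Groth.Agent.GrpschLoci.Loci
import Groth.Prelude.Def_AlgGrp

/-!
An orbit map which is flat at one point of a fibre is flat along the whole fibre.
-/

set_option autoImplicit false
universe u

open CategoryTheory CategoryTheory.Limits MonoidalCategory CartesianMonoidalCategory MonObj GrpObj
  AlgebraicGeometry

namespace Groth.GrpschLoci

variable {S : Scheme.{u}} {G X : Over S} [GrpObj G]

/-- The action morphism of a flat group scheme is flat. -/
theorem flat_act [Flat G.hom] (a : AlgGrp.Action G X) : Flat a.act.left := by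
  let e : G ⊗ X ≅ G ⊗ X :=
    { hom := lift (fst _ _) a.act
      inv := lift (fst _ _) (lift (fst _ _)⁻¹ (snd _ _) ≫ a.act)
      hom_inv_id := by
        apply CartesianMonoidalCategory.hom_ext
        · simp
        · rw [Category.assoc, lift_snd, ← Category.assoc, comp_lift, GrpObj.comp_inv, lift_fst,
            lift_snd]
          simpa using Groth.AlgGrp2.lift_inv_act a (fst G X) (snd G X)
      inv_hom_id := by
        apply CartesianMonoidalCategory.hom_ext
        · simp
        · rw [Category.assoc, lift_snd, show a.act = lift (fst G X) (snd G X) ≫ a.act by simp,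
            ← Category.assoc, comp_lift, lift_fst, lift_snd]
          rw [show lift (fst G X)⁻¹ (snd G X) ≫ lift (fst G X) (snd G X) ≫ a.act =
            lift (fst G X)⁻¹ (snd G X) ≫ a.act by simp, Groth.AlgGrp2.lift_act_inv]
          simp }
  haveI : Flat (snd G X).left :=
    MorphismProperty.of_isPullback (P := @Flat) (Groth.AlgGrp2.isPullback_fst_snd G X) ‹_›
  haveI : IsIso e.hom.left := ((Over.forget S).mapIso e).isIso_hom
  have : a.act = e.hom ≫ snd G X := (lift_snd _ _).symm
  rw [this, Over.comp_left]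
  infer_instance

/-- Flatness of an orbit map at one point of a fibre spreads over the fibre. -/
theorem flat_orbitMap_at [Flat G.hom] (a : AlgGrp.Action G X) (o : 𝟙_ (Over S) ⟶ X) {g x : G.left}
    (hx : G.hom x = G.hom g) (hg : ((a.orbitMap o).left.stalkMap g).hom.Flat) :
    ((a.orbitMap o).left.stalkMap x).hom.Flat := by
  set φ := a.orbitMap o with hφ
  obtain ⟨w₀, hw₁, hw₂⟩ := Scheme.Pullback.exists_preimage_pullback (f := G.hom) (g := G.hom) x g hx
  let σ : G ⊗ G ≅ G ⊗ G :=
    { hom := lift (fst _ _ * snd _ _) (snd _ _)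
      inv := lift (fst _ _ * (snd _ _)⁻¹) (snd _ _)
      hom_inv_id := by
        apply CartesianMonoidalCategory.hom_ext <;> simp [MonObj.comp_mul, GrpObj.comp_inv]
      inv_hom_id := by
        apply CartesianMonoidalCategory.hom_ext <;> simp [MonObj.comp_mul, GrpObj.comp_inv] }
  let w : (G ⊗ G).left := σ.inv.left w₀
  have hws : (snd G G).left w = g := by
    have e : σ.inv ≫ snd G G = snd G G := lift_snd _ _
    exact (congr(($e).left.base w₀)).trans hw₂
  have hwm : μ[G].left w = x := by
    have e : σ.inv ≫ μ[G] = fst G G := by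
      rw [show σ.inv ≫ μ[G] = (fst _ _ * (snd _ _)⁻¹) * snd G G from rfl]; simp
    exact (congr(($e).left.base w₀)).trans hw₁
  have key : μ[G] ≫ φ = (G ◁ φ) ≫ a.act := by
    rw [hφ, AlgGrp.Action.orbitMap, ← Category.assoc, comp_lift, Category.comp_id, ← Category.assoc μ[G],
      toUnit_unique (μ[G] ≫ toUnit G) (toUnit (G ⊗ G))]
    rw [show μ[G] = fst G G * snd G G by simp [Hom.mul_def], Groth.AlgGrp2.lift_mul_act,
      show (G ◁ (lift (𝟙 G) (toUnit G ≫ o) ≫ a.act)) ≫ a.act =
        lift (fst G G) (snd G G ≫ lift (𝟙 G) (toUnit G ≫ o) ≫ a.act) ≫ a.act by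
        congr 1,
      ← Category.assoc (snd G G), comp_lift, Category.comp_id, ← Category.assoc (snd G G),
      toUnit_unique (snd G G ≫ toUnit G) (toUnit (G ⊗ G))]
  have h1 : ((G ◁ φ).left.stalkMap w).hom.Flat :=
    Groth.Misc13.FlatBC.flat_stalkMap_baseChange (Groth.AlgGrp2.isPullback_whiskerLeft_snd G φ) w
      (hws ▸ hg)
  haveI := flat_act a
  have h2 := Groth.AlgSp2.FlatFib.flat_at_comp (G ◁ φ).left a.act.left w h1 (Flat.stalkMap _ _)
  rw [← Over.comp_left, ← key, Over.comp_left] at h2
  haveI : Flat μ[G].left := by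
    have e : μ[G] = σ.hom ≫ fst G G := by simp [σ, Hom.mul_def]
    haveI : IsIso σ.hom.left := ((Over.forget S).mapIso σ).isIso_hom
    haveI : Flat (fst G G).left :=
      MorphismProperty.of_isPullback (P := @Flat) (Groth.AlgGrp2.isPullback_fst_snd G G).flip ‹_›
    rw [e, Over.comp_left]
    infer_instance
  have h3 := Groth.AlgSp2.FlatFib.flat_at_of_comp μ[G].left φ.left w (Flat.stalkMap _ _) h2
  exact hwm ▸ h3

end Groth.GrpschLoci
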