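import Groth.Agent.FlatMor2.NilBaseChange

/-!
Spectra of surjective ring maps with nilpotent kernel are thickenings of finite order.
-/

set_option autoImplicit false
universe u

open CategoryTheory CategoryTheory.Limits AlgebraicGeometry PrimeSpectrum

namespace Groth.GrpschLoci

theorem isFiniteOrderThickening_specMap {R S : CommRingCat.{u}} (φ : R ⟶ S)
    (hφ : Function.Surjective φ.hom) (hn : IsNilpotent (RingHom.ker φ.hom)) :
    MoreMor.IsFiniteOrderThickening (Spec.map φ) := by
  obtain ⟨n, hn⟩ := hn
  refine ⟨⟨IsClosedImmersion.spec_of_surjective φ hφ, ⟨?_⟩⟩, n, ?_⟩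
  · intro p
    have : p ∈ Set.range (PrimeSpectrum.comap φ.hom) := by
      rw [range_comap_of_surjective _ _ hφ]
      intro x hx
      obtain ⟨k, hk⟩ : ∃ k, x ^ k = 0 := ⟨n, by
        have : x ^ n ∈ RingHom.ker φ.hom ^ n := Ideal.pow_mem_pow hx n
        rw [hn] at this
        exact this⟩
      exact p.2.mem_of_pow_mem k (hk ▸ zero_mem _)
    exact this
  · haveI := IsClosedImmersion.spec_of_surjective φ hφ
    refine Scheme.IdealSheafData.ext_of_isAffine ?_
    rw [Scheme.IdealSheafData.ideal_pow, Pi.pow_apply, Scheme.Hom.ker_apply]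
    show RingHom.ker (Spec.map φ).appTop.hom ^ n = _
    let e := (Scheme.ΓSpecIso R).commRingCatIsoToRingEquiv
    have hle : RingHom.ker (Spec.map φ).appTop.hom ≤ Ideal.comap e.toRingHom (RingHom.ker φ.hom) := by
      intro x hx
      have h : (Scheme.ΓSpecIso S).hom ((Spec.map φ).appTop x) = φ ((Scheme.ΓSpecIso R).hom x) :=
        congr($(Scheme.ΓSpecIso_naturality φ) x)
      rw [RingHom.mem_ker.mp hx, map_zero] at h
      exact h.symm
    refine le_antisymm ((Ideal.pow_right_mono hle n).trans ((Ideal.le_comap_pow _ n).trans ?_)) bot_le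
    rw [hn]
    intro x hx
    exact e.injective ((Ideal.mem_bot.mp hx).trans (map_zero e).symm)

end Groth.GrpschLoci
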