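import Groth.Agent.GrpschLoci.LfpDescend
import Groth.Agent.DescentBase.SourceLocal
import Groth.Agent.FlatMor2.Thickening

/-!
The locus of a local property of a homomorphism is a subgroup as soon as the property descends along
the base change by the locus itself.
-/

set_option autoImplicit false
universe u

open CategoryTheory CategoryTheory.Limits MonoidalCategory CartesianMonoidalCategory MonObj GrpObj
  AlgebraicGeometry

namespace Groth.GrpschLoci

variable {S : Scheme.{u}} {G H : Over S} [GrpObj G] [GrpObj H] (u : G ⟶ H) [IsMonHom u]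

/-- An open set where a property holds is an open subgroup over its image. -/
theorem subgroup_locus (Q : ∀ ⦃X Y : Scheme.{u}⦄, (X ⟶ Y) → X → Prop)
    (hbc : ∀ ⦃X' X Y' Y : Scheme.{u}⦄ {g' : X' ⟶ X} {f' : X' ⟶ Y'} {f : X ⟶ Y} {g : Y' ⟶ Y},
      IsPullback g' f' f g → ∀ x', Q f (g' x') → Q f' x')
    (V : G.left.Opens) (hV : ∀ x, x ∈ V ↔ Q u.left x)
    (hdesc : ∀ w : (G ⊗ Over.mk (V.ι ≫ G.hom)).left, Q (u ▷ Over.mk (V.ι ≫ G.hom)).left w →
      Q u.left ((fst G (Over.mk (V.ι ≫ G.hom))).left w)) :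
    IsOpen (G.hom.base '' (V : Set G.left)) ∧
    (∀ g ∈ V, ∀ p : ↥(𝟙_ (Over S)).left, (𝟙_ (Over S)).hom.base p = G.hom.base g → η[G].left.base p ∈ V) ∧
    (∀ g ∈ V, ι[G].left.base g ∈ V) ∧
    (∀ z : ↥(G ⊗ G).left, (fst G G).left.base z ∈ V → (snd G G).left.base z ∈ V → μ[G].left.base z ∈ V) := by
  let VO : Over S := Over.mk (V.ι ≫ G.hom)
  let inc : VO ⟶ G := Over.homMk V.ι rfl
  -- descend from a point with second coordinate in `V`
  have low : ∀ y : (G ⊗ G).left, (snd G G).left y ∈ V → Q (u ▷ G).left y → (fst G G).left y ∈ V := by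
    intro y hy hQ
    obtain ⟨w, hw, -⟩ := Scheme.Pullback.exists_preimage_pullback (f := (snd G G).left) (g := inc.left) y
      ⟨_, hy⟩ rfl
    have sqG := Groth.AlgGrp2.isPullback_whiskerLeft_snd G inc
    have sqH := Groth.AlgGrp2.isPullback_whiskerLeft_snd H inc
    have sq : IsPullback (G ◁ inc).left (u ▷ VO).left (u ▷ G).left (H ◁ inc).left := by
      refine IsPullback.of_bot ?_ ?_ sqH
      · have e1 : (u ▷ VO).left ≫ (snd H VO).left = (snd G VO).left := by
          rw [← Over.comp_left, whiskerRight_snd]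
        have e2 : (u ▷ G).left ≫ (snd H G).left = (snd G G).left := by
          rw [← Over.comp_left, whiskerRight_snd]
        rw [e1, e2]
        exact sqG
      · rw [← Over.comp_left, ← Over.comp_left]
        congr 1
        apply CartesianMonoidalCategory.hom_ext <;> simp
    let w' := sqG.isoPullback.inv w
    have hw' : (G ◁ inc).left w' = y := by
      rw [← Scheme.Hom.comp_apply, sqG.isoPullback_inv_fst]; exact hw
    have h := hdesc w' (hbc sq w' (hw'.symm ▸ hQ))
    have e : (fst G VO).left w' = (fst G G).left y := by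
      rw [← hw', ← Scheme.Hom.comp_apply (G ◁ inc).left, ← Over.comp_left, whiskerLeft_fst]
    exact (hV _).mpr (e ▸ h)
  let σ := Groth.GrpschAbsch.shearR (𝟙 G)
  have hsq := isPullback_shear u
  have hsq' : IsPullback (inv σ.hom.left) (u ▷ G).left (u ▷ G).left
      (inv (Groth.GrpschAbsch.shearR u).hom.left) :=
    IsPullback.of_horiz_isIso ⟨by rw [IsIso.inv_comp_eq, ← Category.assoc, hsq.w,
      Category.assoc, IsIso.hom_inv_id, Category.comp_id]⟩
  have hleft : ∀ (c : G ⊗ G ⟶ G) (z : (G ⊗ G).left), (σ.inv ≫ c).left z = c.left (σ.inv.left z) :=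
    fun c z ↦ rfl
  -- both shears
  have both : ∀ z : (G ⊗ G).left, (fst G G).left z ∈ V → (snd G G).left z ∈ V →
      (fst G G * snd G G).left z ∈ V ∧ (fst G G * (snd G G)⁻¹).left z ∈ V := by
    intro z h1 h2
    have hz : Q (u ▷ G).left z :=
      hbc (Groth.AlgGrp2.isPullback_whiskerRight_fst G u).flip z ((hV _).mp h1)
    constructor
    · have hzσ : inv σ.hom.left (σ.hom.left z) = z := by
        rw [← Scheme.Hom.comp_apply, IsIso.hom_inv_id]; rfl
      have h := low (σ.hom.left z) (by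
        rw [← Scheme.Hom.comp_apply, ← Over.comp_left, show σ.hom ≫ snd G G = snd G G by simp [σ]]
        exact h2) (hbc hsq' (σ.hom.left z) (hzσ.symm ▸ hz))
      rwa [← Scheme.Hom.comp_apply, ← Over.comp_left,
        show σ.hom ≫ fst G G = fst G G * snd G G by simp [σ]] at h
    · have hzσ : σ.hom.left (σ.inv.left z) = z := by
        rw [← Scheme.Hom.comp_apply, ← Over.comp_left, Iso.inv_hom_id]; rfl
      have h := low (σ.inv.left z) (by
        rw [← hleft, show σ.inv ≫ snd G G = snd G G by simp [σ]]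
        exact h2) (hbc hsq (σ.inv.left z) (hzσ.symm ▸ hz))
      rwa [← hleft, show σ.inv ≫ fst G G = fst G G * (snd G G)⁻¹ by simp [σ]] at h
  have he : ∀ s : S, G.hom (η[G].left s) = s := fun s ↦ by
    show (η[G].left ≫ G.hom) s = s
    rw [Over.w η[G]]; rfl
  have unit : ∀ g ∈ V, η[G].left (G.hom g) ∈ V := by
    intro g hg
    let Δ : G ⟶ G ⊗ G := lift (𝟙 G) (𝟙 G)
    have h := (both (Δ.left g)
      (by rw [← Scheme.Hom.comp_apply, ← Over.comp_left, lift_fst]; exact hg)
      (by rw [← Scheme.Hom.comp_apply, ← Over.comp_left, lift_snd]; exact hg)).2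
    rwa [← Scheme.Hom.comp_apply, ← Over.comp_left,
      show Δ ≫ (fst G G * (snd G G)⁻¹) = 1 by simp [Δ, MonObj.comp_mul, GrpObj.comp_inv],
      Hom.one_def, Over.comp_left, Scheme.Hom.comp_apply, show (toUnit G).left g = G.hom g from rfl] at h
  refine ⟨?_, fun g hg p hp => ?_, fun g hg => ?_, fun z h1 h2 => ?_⟩
  · have : G.hom.base '' (V : Set G.left) = (fun s : S => η[G].left s) ⁻¹' (V : Set G.left) := by
      ext s
      constructor
      · rintro ⟨x, hx, rfl⟩; exact unit x hx
      · exact fun h => ⟨_, h, he s⟩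
    exact this ▸ V.2.preimage η[G].left.continuous
  · rw [show p = G.hom g from hp]; exact unit g hg
  · let j : G ⟶ G ⊗ G := lift 1 (𝟙 G)
    have h := (both (j.left g)
      (by rw [← Scheme.Hom.comp_apply, ← Over.comp_left, lift_fst, Hom.one_def, Over.comp_left,
            Scheme.Hom.comp_apply]
          exact unit g hg)
      (by rw [← Scheme.Hom.comp_apply, ← Over.comp_left, lift_snd]; exact hg)).2
    rwa [← Scheme.Hom.comp_apply, ← Over.comp_left,
      show j ≫ (fst G G * (snd G G)⁻¹) = ι[G] by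
        simp only [j, MonObj.comp_mul, GrpObj.comp_inv, lift_fst, lift_snd, _root_.one_mul]
        rw [Hom.inv_def, Category.id_comp]] at h
  · have h := (both z h1 h2).1
    rwa [show μ[G] = fst G G * snd G G by simp [Hom.mul_def]]

section Descent

variable {X Y X' Y' : Scheme.{u}} {f : X ⟶ Y} {g' : X' ⟶ X} {f' : X' ⟶ Y'} {g : Y' ⟶ Y}

/-- Universal openness at a point descends along a universally open base change. -/
theorem Near.universallyOpen_descend (H : IsPullback g' f' f g) [UniversallyOpen g] {x' : X'}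
    (h : Near @UniversallyOpen f' x') : Near @UniversallyOpen f (g' x') := by
  obtain ⟨O, hxO, hO⟩ := h
  haveI : UniversallyOpen g' := MorphismProperty.of_isPullback H.flip ‹_›
  let W : X.Opens := ⟨g' '' (O : Set X'), g'.isOpenMap _ O.2⟩
  have hle : O ≤ g' ⁻¹ᵁ W := fun z hz => ⟨z, hz, rfl⟩
  let p : O.toScheme ⟶ W.toScheme := g'.resLE W O hle
  have hp : p ≫ W.ι = O.ι ≫ g' := Scheme.Hom.resLE_comp_ι _ _
  haveI : Surjective p := ⟨fun w => by
    obtain ⟨z, hz, hzw⟩ := w.2
    exact ⟨⟨z, hz⟩, W.ι.isOpenEmbedding.injective ((congr(($hp).base ⟨z, hz⟩)).trans hzw)⟩⟩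
  haveI : UniversallyOpen (p ≫ W.ι ≫ f) := by
    rw [← Category.assoc, hp, Category.assoc, H.w, ← Category.assoc]
    haveI := hO
    infer_instance
  exact ⟨W, ⟨x', hxO, rfl⟩, Groth.FlatMor2.universallyOpen_of_comp_surjective p (W.ι ≫ f)⟩

/-- Flatness with local finite presentation descends along an fppf base change. -/
theorem Near.flat_lfp_descend (H : IsPullback g' f' f g) [Flat g] [LocallyOfFinitePresentation g]
    {x' : X'} (h : Near (@Flat ⊓ @LocallyOfFinitePresentation) f' x') :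
    Near (@Flat ⊓ @LocallyOfFinitePresentation) f (g' x') := by
  obtain ⟨O, hxO, hO, hO'⟩ := h
  haveI : Flat g' := MorphismProperty.of_isPullback H.flip ‹_›
  haveI : LocallyOfFinitePresentation g' := MorphismProperty.of_isPullback H.flip ‹_›
  let W : X.Opens := ⟨g' '' (O : Set X'), g'.isOpenMap _ O.2⟩
  have hle : O ≤ g' ⁻¹ᵁ W := fun z hz => ⟨z, hz, rfl⟩
  let p : O.toScheme ⟶ W.toScheme := g'.resLE W O hle
  have hp : p ≫ W.ι = O.ι ≫ g' := Scheme.Hom.resLE_comp_ι _ _
  haveI : Surjective p := ⟨fun w => by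
    obtain ⟨z, hz, hzw⟩ := w.2
    exact ⟨⟨z, hz⟩, W.ι.isOpenEmbedding.injective ((congr(($hp).base ⟨z, hz⟩)).trans hzw)⟩⟩
  haveI : Flat p := by simp only [p, Scheme.Hom.resLE]; infer_instance
  haveI : LocallyOfFinitePresentation p := by simp only [p, Scheme.Hom.resLE]; infer_instance
  haveI : Flat (p ≫ W.ι ≫ f) := by
    rw [← Category.assoc, hp, Category.assoc, H.w, ← Category.assoc]
    haveI := hO
    infer_instance
  haveI : LocallyOfFinitePresentation (p ≫ W.ι ≫ f) := by
    rw [← Category.assoc, hp, Category.assoc, H.w, ← Category.assoc]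
    haveI := hO'
    infer_instance
  exact ⟨W, ⟨x', hxO, rfl⟩, Groth.DescentBase.flat_of_flat_surjective p (W.ι ≫ f),
    Groth.GitQuot.FppfSource.locallyOfFinitePresentation_of_fppf p (W.ι ≫ f)⟩

theorem Near.of_ι {P : MorphismProperty Scheme.{u}} [P.RespectsIso] (W : X.Opens) {x : W.toScheme}
    (h : Near P (W.ι ≫ f) x) : Near P f x.1 := by
  obtain ⟨U, hU, hP⟩ := h
  refine ⟨W.ι ''ᵁ U, ⟨x, hU, rfl⟩, ?_⟩
  rw [← Scheme.Hom.isoImage_inv_ι W.ι U, Category.assoc, P.cancel_left_of_respectsIso, Category.assoc]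
  exact hP

/-- Smoothness at a point descends along an fppf base change. -/
theorem Near.smooth_descend_fppf (H : IsPullback g' f' f g) [Flat g] [LocallyOfFinitePresentation g]
    {x' : X'} (h : Near @Smooth f' x') : Near @Smooth f (g' x') := by
  obtain ⟨W, hxW, hW⟩ := Near.lfp_descend H
    (let ⟨O, hO, hS⟩ := h; ⟨O, hO, inferInstance⟩ : Near @LocallyOfFinitePresentation f' x')
  have sq := (isPullback_morphismRestrict g' W).paste_vert H
  obtain ⟨O, hxO, hO⟩ := h
  have e : ((g' ∣_ W) ⟨x', hxW⟩).1 = g' x' := congr(($(morphismRestrict_ι g' W)).base ⟨x', hxW⟩)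
  rw [← e]
  refine Near.of_ι W (Near.smooth_descend sq (x' := ⟨x', hxW⟩)
    ⟨(g' ⁻¹ᵁ W).ι ⁻¹ᵁ O, hxO, ?_⟩)
  haveI := hO
  rw [← Category.assoc, ← morphismRestrict_ι (g' ⁻¹ᵁ W).ι O, Category.assoc]
  infer_instance

/-- Étaleness at a point descends along an fppf base change. -/
theorem Near.etale_descend_fppf (H : IsPullback g' f' f g) [Flat g] [LocallyOfFinitePresentation g]
    {x' : X'} (h : Near @Etale f' x') : Near @Etale f (g' x') := by
  obtain ⟨W, hxW, hW⟩ := Near.lfp_descend H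
    (let ⟨O, hO, hS⟩ := h; ⟨O, hO, inferInstance⟩ : Near @LocallyOfFinitePresentation f' x')
  have sq := (isPullback_morphismRestrict g' W).paste_vert H
  obtain ⟨O, hxO, hO⟩ := h
  have e : ((g' ∣_ W) ⟨x', hxW⟩).1 = g' x' := congr(($(morphismRestrict_ι g' W)).base ⟨x', hxW⟩)
  rw [← e]
  refine Near.of_ι W (Near.etale_descend sq (x' := ⟨x', hxW⟩)
    ⟨(g' ⁻¹ᵁ W).ι ⁻¹ᵁ O, hxO, ?_⟩)
  haveI := hO
  rw [← Category.assoc, ← morphismRestrict_ι (g' ⁻¹ᵁ W).ι O, Category.assoc]
  infer_instance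

end Descent

end Groth.GrpschLoci
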