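import Groth.Agent.GrpschLoci.Basic
import Mathlib.AlgebraicGeometry.Morphisms.Descent
import Mathlib.AlgebraicGeometry.Morphisms.Flat

/-!
The locus on the target over which a morphism has an fpqc-local property.
-/

set_option autoImplicit false
universe u

open CategoryTheory CategoryTheory.Limits AlgebraicGeometry

namespace Groth.GrpschLoci

/-- The property holds over some neighbourhood of a point of the target. -/
def NearT (P : MorphismProperty Scheme.{u}) {X Y : Scheme.{u}} (f : X ⟶ Y) (y : Y) : Prop :=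
  ∃ W : Y.Opens, y ∈ W ∧ P (f ∣_ W)

variable {P : MorphismProperty Scheme.{u}} {X Y X' Y' : Scheme.{u}} {f : X ⟶ Y}
  {g' : X' ⟶ X} {f' : X' ⟶ Y'} {g : Y' ⟶ Y}

theorem restrict_of_isPullback [P.IsStableUnderBaseChange] (H : IsPullback g' f' f g) {W : Y.Opens}
    (hP : P (f ∣_ W)) {Z : Y'.Opens} (hZ : Z ≤ g ⁻¹ᵁ W) : P (f' ∣_ Z) := by
  let q : Z.toScheme ⟶ W.toScheme := g.resLE W Z hZ
  have hq : q ≫ W.ι = Z.ι ≫ g := Scheme.Hom.resLE_comp_ι _ _
  have big : IsPullback ((f' ⁻¹ᵁ Z).ι ≫ g') (f' ∣_ Z) f (q ≫ W.ι) := by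
    rw [hq]; exact (isPullback_morphismRestrict f' Z).flip.paste_horiz H
  have hf := (isPullback_morphismRestrict f W).flip
  let p := hf.lift ((f' ⁻¹ᵁ Z).ι ≫ g') ((f' ∣_ Z) ≫ q) (by rw [Category.assoc]; exact big.w)
  have : IsPullback p (f' ∣_ Z) (f ∣_ W) q :=
    IsPullback.of_right (by rw [hf.lift_fst]; exact big) (hf.lift_snd _ _ _) hf
  exact MorphismProperty.of_isPullback this hP

theorem NearT.bc [P.IsStableUnderBaseChange] (H : IsPullback g' f' f g) {y' : Y'}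
    (h : NearT P f (g y')) : NearT P f' y' := by
  obtain ⟨W, hW, hP⟩ := h
  exact ⟨g ⁻¹ᵁ W, hW, restrict_of_isPullback H hP le_rfl⟩

theorem NearT.descend [P.IsStableUnderBaseChange]
    [P.DescendsAlong (@Flat ⊓ @Surjective ⊓ @QuasiCompact)] (H : IsPullback g' f' f g) [Flat g]
    (hg : IsOpenMap g.base) {y' : Y'} (h : NearT P f' y') : NearT P f (g y') := by
  classical
  obtain ⟨W', hW', hP⟩ := h
  obtain ⟨_, ⟨V : Y.Opens, hV, rfl⟩, hyV, hVI⟩ := Y.isBasis_affineOpens.exists_subset_of_mem_open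
    (show g y' ∈ g '' (W' : Set Y') from ⟨y', hW', rfl⟩) (hg _ W'.2)
  have hcov : (V : Set Y) ⊆ ⋃ A : {A : Y'.Opens // IsAffineOpen A ∧ A ≤ W' ⊓ g ⁻¹ᵁ V}, g '' (A.1 : Set Y') := by
    intro y hy
    obtain ⟨z, hz, rfl⟩ := hVI hy
    obtain ⟨_, ⟨A : Y'.Opens, hA, rfl⟩, hzA, hAs⟩ :=
      Y'.isBasis_affineOpens.exists_subset_of_mem_open (show z ∈ W' ⊓ g ⁻¹ᵁ V from ⟨hz, hy⟩) (W' ⊓ g ⁻¹ᵁ V).2
    exact Set.mem_iUnion.mpr ⟨⟨A, hA, hAs⟩, z, hzA, rfl⟩
  obtain ⟨s, hs⟩ := hV.isCompact.elim_finite_subcover _ (fun A => hg _ A.1.2) hcov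
  let Z : Y'.Opens := ⨆ A ∈ s, A.1
  have hZmem : (Z : Set Y') = ⋃ A ∈ s, (A.1 : Set Y') := by simp [Z]
  have hZc : IsCompact (Z : Set Y') := by
    rw [hZmem]; exact s.isCompact_biUnion fun A _ => A.2.1.isCompact
  have hZle : Z ≤ W' ⊓ g ⁻¹ᵁ V := iSup₂_le fun A _ => A.2.2
  let q : Z.toScheme ⟶ V.toScheme := g.resLE V Z (hZle.trans inf_le_right)
  have hq : q ≫ V.ι = Z.ι ≫ g := Scheme.Hom.resLE_comp_ι _ _
  haveI : Surjective q := ⟨fun v => by
    obtain ⟨A, hA, z, hz, hzv⟩ := Set.mem_iUnion₂.mp (hs v.2)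
    have hzZ : z ∈ Z := by
      show z ∈ (Z : Set Y')
      rw [hZmem]
      exact Set.mem_biUnion hA hz
    exact ⟨⟨z, hzZ⟩, V.ι.isOpenEmbedding.injective ((congr(($hq).base ⟨z, hzZ⟩)).trans hzv)⟩⟩
  haveI : Flat q := by simp only [q, Scheme.Hom.resLE]; infer_instance
  haveI : QuasiCompact q := by
    haveI : CompactSpace Z.toScheme := isCompact_iff_compactSpace.mp hZc
    haveI : IsAffine V.toScheme := hV
    rw [HasAffineProperty.iff_of_isAffine (P := @QuasiCompact)]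
    infer_instance
  have hPZ : P (f' ∣_ Z) := by
    refine restrict_of_isPullback (IsPullback.id_vert f' : IsPullback f' (𝟙 X') (𝟙 Y') f').flip hP ?_
    exact hZle.trans inf_le_left
  have hVq : IsPullback ((f' ⁻¹ᵁ Z).ι ≫ g') (f' ∣_ Z) f (q ≫ V.ι) := by
    rw [hq]; exact (isPullback_morphismRestrict f' Z).flip.paste_horiz H
  have hf := (isPullback_morphismRestrict f V).flip
  let p := hf.lift ((f' ⁻¹ᵁ Z).ι ≫ g') ((f' ∣_ Z) ≫ q) (by rw [Category.assoc]; exact hVq.w)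
  have sq : IsPullback p (f' ∣_ Z) (f ∣_ V) q :=
    IsPullback.of_right (by rw [hf.lift_fst]; exact hVq) (hf.lift_snd _ _ _) hf
  exact ⟨V, hyV, MorphismProperty.of_isPullback_of_descendsAlong
    (Q := @Flat ⊓ @Surjective ⊓ @QuasiCompact) sq.flip ⟨⟨‹_›, ‹_›⟩, ‹_›⟩ hPZ⟩

theorem nearT_iff_mem {W : Y.Opens} (hW : P (f ∣_ W))
    (hmax : ∀ W₀ : Y.Opens, P (f ∣_ W₀) → W₀ ≤ W) {y : Y} : NearT P f y ↔ y ∈ W :=
  ⟨fun ⟨W₀, hy, hP⟩ => hmax W₀ hP hy, fun hy => ⟨W, hy, hW⟩⟩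

end Groth.GrpschLoci

namespace Groth.GrpschLoci

open MonoidalCategory CartesianMonoidalCategory MonObj GrpObj

/-- An open union of fibres of a group scheme is stable under the group operations. -/
theorem subgroup_of_saturated {S : Scheme.{u}} {G : Over S} [GrpObj G] (V : G.left.Opens)
    (hinv : ∀ x y : G.left, G.hom x = G.hom y → x ∈ V → y ∈ V) :
    IsOpen (G.hom.base '' (V : Set G.left)) ∧
    (∀ g ∈ V, ∀ p : ↥(𝟙_ (Over S)).left, (𝟙_ (Over S)).hom.base p = G.hom.base g → η[G].left.base p ∈ V) ∧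
    (∀ g ∈ V, ι[G].left.base g ∈ V) ∧
    (∀ z : ↥(G ⊗ G).left, (fst G G).left.base z ∈ V → (snd G G).left.base z ∈ V → μ[G].left.base z ∈ V) := by
  have he : ∀ s : S, G.hom (η[G].left s) = s := fun s ↦ by
    show (η[G].left ≫ G.hom) s = s
    rw [Over.w η[G]]; rfl
  have him : G.hom.base '' (V : Set G.left) = (fun s : S => η[G].left s) ⁻¹' (V : Set G.left) := by
    ext s
    constructor
    · rintro ⟨x, hx, rfl⟩; exact hinv x _ (he _).symm hx
    · exact fun h => ⟨_, h, he s⟩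
  refine ⟨him ▸ V.2.preimage η[G].left.continuous, fun g hg p hp => ?_, fun g hg => ?_, fun z hz _ => ?_⟩
  · refine hinv g _ ?_ hg
    rw [he]
    exact hp.symm
  · refine hinv g _ ?_ hg
    exact (congr(($(Over.w ι[G])).base g)).symm
  · refine hinv _ _ ?_ hz
    have e := congr(($((Over.w μ[G]).trans (Over.w (fst G G)).symm)).base z)
    exact e.symm

end Groth.GrpschLoci
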